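import Cfsg.Agent.H960.Three
import Cfsg.Agent.ClassicalGeometry.SymmNormalForm
import Cfsg.Agent.H960.Trace5
set_option linter.all false

-- part: H960/Frames
section
/-!
Frames for matrices `M` with `M² + aM + b = 0`, `X² + aX + b` irreducible, in dimension four (H960).
-/

set_option autoImplicit false
set_option linter.unusedSimpArgs false
open Cfsg Cfsg.Geo Matrix
open scoped MatrixGroups

namespace Cfsg.Agent.H960

variable {F : Type*} [Field F]

theorem exists_GL_of_li {n : ℕ} {w : Fin n → (Fin n → F)} (hw : LinearIndependent F w) :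
    ∃ B : GL (Fin n) F, ∀ j, (B : Matrix (Fin n) (Fin n) F) *ᵥ Pi.single j 1 = w j := by
  have h1 : IsUnit (Matrix.of w) := Matrix.linearIndependent_rows_iff_isUnit.1 hw
  have h2 : IsUnit (Matrix.of w)ᵀ := (Matrix.isUnit_transpose _).2 h1
  obtain ⟨B, hB⟩ := h2
  refine ⟨B, fun j => ?_⟩
  have hB' : (B : Matrix (Fin n) (Fin n) F) = (Matrix.of w)ᵀ := hB
  ext i
  rw [hB', Matrix.mulVec_single_one]
  rfl

theorem mul_of_cols {n : ℕ} {M B J : Matrix (Fin n) (Fin n) F}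
    (h : ∀ j, M *ᵥ (B *ᵥ Pi.single j 1) = B *ᵥ (J *ᵥ Pi.single j 1)) : M * B = B * J := by
  apply Matrix.ext_of_mulVec_single
  intro j
  rw [← Matrix.mulVec_mulVec, ← Matrix.mulVec_mulVec]
  exact h j

theorem quad_vec {n : ℕ} {M : Matrix (Fin n) (Fin n) F} {a b : F}
    (hM : M * M + a • M + b • (1 : Matrix (Fin n) (Fin n) F) = 0) (w : Fin n → F) :
    M *ᵥ (M *ᵥ w) = (-b) • w + (-a) • (M *ᵥ w) := by
  have h3 : (M * M + a • M + b • (1 : Matrix (Fin n) (Fin n) F)) *ᵥ w = 0 := by rw [hM, Matrix.zero_mulVec]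
  rw [Matrix.add_mulVec, Matrix.add_mulVec, Matrix.smul_mulVec, Matrix.smul_mulVec, Matrix.one_mulVec,
    ← Matrix.mulVec_mulVec] at h3
  rw [← sub_eq_zero, ← h3, neg_smul, neg_smul]
  abel

/-- if `X² + aX + b` has no root, an `M`-invariant subspace containing `(d + eM) w` contains `w` -/
theorem mem_of_quad {n : ℕ} {M : Matrix (Fin n) (Fin n) F} {a b : F} (hab : ∀ t : F, t * t + a * t + b ≠ 0)
    {W : Submodule F (Fin n → F)} (hW : ∀ v ∈ W, M *ᵥ v ∈ W) {w : Fin n → F}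
    (hM : M *ᵥ (M *ᵥ w) = (-b) • w + (-a) • (M *ᵥ w)) {d e : F} (hde : ¬ (d = 0 ∧ e = 0))
    (hw : d • w + e • (M *ᵥ w) ∈ W) : w ∈ W := by
  have hn : d * d - a * d * e + b * e * e ≠ 0 := by
    by_cases he : e = 0
    · subst he
      have hd : d ≠ 0 := fun h => hde ⟨h, rfl⟩
      simpa using hd
    · intro h
      apply hab (-(d / e))
      field_simp
      linear_combination h
  have h1 : (d - a * e) • (d • w + e • (M *ᵥ w)) - e • (M *ᵥ (d • w + e • (M *ᵥ w))) =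
      (d * d - a * d * e + b * e * e) • w := by
    rw [Matrix.mulVec_add, Matrix.mulVec_smul, Matrix.mulVec_smul, hM]
    module
  have h4 : (d * d - a * d * e + b * e * e) • w ∈ W := by
    rw [← h1]
    exact W.sub_mem (W.smul_mem _ hw) (W.smul_mem _ (hW _ hw))
  exact (W.smul_mem_iff hn).1 h4

theorem quad_span {n : ℕ} {M : Matrix (Fin n) (Fin n) F} {a b : F} {w : Fin n → F}
    (hM : M *ᵥ (M *ᵥ w) = (-b) • w + (-a) • (M *ᵥ w)) :
    ∀ v ∈ Submodule.span F {w, M *ᵥ w}, M *ᵥ v ∈ Submodule.span F {w, M *ᵥ w} := by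
  intro v hv
  rw [Submodule.mem_span_pair] at hv ⊢
  obtain ⟨c, d, rfl⟩ := hv
  refine ⟨-(b * d), c - a * d, ?_⟩
  rw [Matrix.mulVec_add, Matrix.mulVec_smul, Matrix.mulVec_smul, hM]
  module

/-- the companion matrix of `(X² + aX + b)²` in block form -/
def jA (a b : F) : Matrix (Fin 4) (Fin 4) F := !![0, -b, 0, 0; 1, -a, 0, 0; 0, 0, 0, -b; 0, 0, 1, -a]

theorem jA_mulVec (a b : F) (v : Fin 4 → F) :
    jA a b *ᵥ v = ![-b * v 1, v 0 - a * v 1, -b * v 3, v 2 - a * v 3] := by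
  ext i
  fin_cases i <;> simp [jA, Matrix.mulVec, dotProduct, Fin.sum_univ_four] <;> ring

theorem det_jA (a b : F) : (jA a b).det = b * b := by
  rw [Matrix.det_succ_row_zero]
  simp [jA, Fin.sum_univ_four, Matrix.det_fin_three, Matrix.submatrix_apply, Fin.succAbove]

theorem exists_frameA {M : Matrix (Fin 4) (Fin 4) F} {a b : F}
    (hM : M * M + a • M + b • (1 : Matrix (Fin 4) (Fin 4) F) = 0) (hab : ∀ t : F, t * t + a * t + b ≠ 0) :
    ∃ B : GL (Fin 4) F, M * B = B * jA a b := by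
  -- the first vector
  obtain ⟨w1, hw1⟩ : ∃ w1 : Fin 4 → F, w1 = Pi.single 0 1 := ⟨_, rfl⟩
  have hw10 : w1 ≠ 0 := by
    intro h
    have := congrFun h 0
    rw [hw1, Pi.single_eq_same, Pi.zero_apply] at this
    exact one_ne_zero this
  obtain ⟨w2, hw2⟩ : ∃ w2, w2 ∉ Submodule.span F {w1, M *ᵥ w1} := by
    by_contra hcon
    push Not at hcon
    have htop : Submodule.span F {w1, M *ᵥ w1} = ⊤ := by
      rw [eq_top_iff]
      exact fun v _ => hcon v
    have h1 : Module.finrank F (Submodule.span F ({w1, M *ᵥ w1} : Set (Fin 4 → F))) = 4 := by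
      rw [htop, finrank_top, Module.finrank_fintype_fun_eq_card, Fintype.card_fin]
    classical
    have h2 : Module.finrank F (Submodule.span F (({w1, M *ᵥ w1} : Finset (Fin 4 → F)) : Set (Fin 4 → F))) ≤ 2 := by
      exact (finrank_span_finset_le_card _).trans (Finset.card_le_two)
    rw [Finset.coe_insert, Finset.coe_singleton, h1] at h2
    omega
  have h0 : ∀ d e : F, d • w1 + e • (M *ᵥ w1) = 0 → d = 0 ∧ e = 0 := by
    intro d e h
    by_contra hcon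
    have h6 := mem_of_quad hab (W := ⊥) (by
      intro v hv
      rw [Submodule.mem_bot] at hv ⊢
      rw [hv, Matrix.mulVec_zero]) (quad_vec hM w1) hcon (by rw [h]; exact Submodule.zero_mem _)
    exact hw10 ((Submodule.mem_bot F).1 h6)
  have hli : LinearIndependent F ![w1, M *ᵥ w1, w2, M *ᵥ w2] := by
    rw [Fintype.linearIndependent_iff]
    intro g hg
    rw [Fin.sum_univ_four] at hg
    simp only [Matrix.cons_val_zero, Matrix.cons_val_one, Matrix.cons_val_two, Matrix.cons_val_three, Matrix.head_cons,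
      Matrix.tail_cons, Matrix.cons_val] at hg
    have h7 : g 2 = 0 ∧ g 3 = 0 := by
      by_contra hcon
      apply hw2
      apply mem_of_quad hab (quad_span (quad_vec hM w1)) (quad_vec hM w2) hcon
      have h8 : g 2 • w2 + g 3 • (M *ᵥ w2) = -(g 0 • w1 + g 1 • (M *ᵥ w1)) := by
        rw [eq_neg_iff_add_eq_zero, ← hg]
        abel
      rw [h8]
      exact Submodule.neg_mem _ (Submodule.mem_span_pair.2 ⟨_, _, rfl⟩)
    rw [h7.1, h7.2, zero_smul, zero_smul, add_zero, add_zero] at hg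
    obtain ⟨h8, h9⟩ := h0 _ _ hg
    intro i
    fin_cases i
    · exact h8
    · exact h9
    · exact h7.1
    · exact h7.2
  obtain ⟨B, hB⟩ := exists_GL_of_li hli
  refine ⟨B, mul_of_cols (fun j => ?_)⟩
  have hquad := fun w => quad_vec hM w
  have e0 : jA a b *ᵥ Pi.single 0 1 = Pi.single 1 1 := by
    rw [jA_mulVec]; ext i; fin_cases i <;> simp
  have e1 : jA a b *ᵥ Pi.single 1 1 = (-b) • Pi.single 0 1 + (-a) • Pi.single 1 1 := by
    rw [jA_mulVec]; ext i; fin_cases i <;> simp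
  have e2 : jA a b *ᵥ Pi.single 2 1 = Pi.single 3 1 := by
    rw [jA_mulVec]; ext i; fin_cases i <;> simp
  have e3 : jA a b *ᵥ Pi.single 3 1 = (-b) • Pi.single 2 1 + (-a) • Pi.single 3 1 := by
    rw [jA_mulVec]; ext i; fin_cases i <;> simp
  have hB0 : (B : Matrix (Fin 4) (Fin 4) F) *ᵥ Pi.single 0 1 = w1 := hB 0
  have hB1 : (B : Matrix (Fin 4) (Fin 4) F) *ᵥ Pi.single 1 1 = M *ᵥ w1 := hB 1
  have hB2 : (B : Matrix (Fin 4) (Fin 4) F) *ᵥ Pi.single 2 1 = w2 := hB 2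
  have hB3 : (B : Matrix (Fin 4) (Fin 4) F) *ᵥ Pi.single 3 1 = M *ᵥ w2 := hB 3
  fin_cases j
  · change M *ᵥ ((B : Matrix (Fin 4) (Fin 4) F) *ᵥ Pi.single 0 1) = B *ᵥ (jA a b *ᵥ Pi.single 0 1)
    rw [e0, hB0, hB1]
  · change M *ᵥ ((B : Matrix (Fin 4) (Fin 4) F) *ᵥ Pi.single 1 1) = B *ᵥ (jA a b *ᵥ Pi.single 1 1)
    rw [e1, Matrix.mulVec_add, Matrix.mulVec_smul, Matrix.mulVec_smul, hB0, hB1, hquad]
  · change M *ᵥ ((B : Matrix (Fin 4) (Fin 4) F) *ᵥ Pi.single 2 1) = B *ᵥ (jA a b *ᵥ Pi.single 2 1)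
    rw [e2, hB2, hB3]
  · change M *ᵥ ((B : Matrix (Fin 4) (Fin 4) F) *ᵥ Pi.single 3 1) = B *ᵥ (jA a b *ᵥ Pi.single 3 1)
    rw [e3, Matrix.mulVec_add, Matrix.mulVec_smul, Matrix.mulVec_smul, hB2, hB3, hquad]

/-- the form of type B -/
def jB : Matrix (Fin 4) (Fin 4) F := !![0, -1, 0, 0; 1, -1, 0, 0; 0, 0, 1, 0; 0, 0, 0, 1]

theorem jB_mulVec (v : Fin 4 → F) : jB *ᵥ v = ![-v 1, v 0 - v 1, v 2, v 3] := by
  ext i
  fin_cases i <;> simp [jB, Matrix.mulVec, dotProduct, Fin.sum_univ_four]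
  ring

theorem exists_frameB [Fintype F] {x : GL (Fin 4) F} (hcard : Fintype.card F % 3 = 2) (h3 : (3 : F) ≠ 0)
    (hroot : ∀ t : F, t * t + 1 * t + 1 ≠ 0) (hx3 : x ^ 3 = 1) (hx1 : x ≠ 1)
    (hxq : (x : Matrix (Fin 4) (Fin 4) F) * x + x + 1 ≠ 0) :
    ∃ B : GL (Fin 4) F, (x : Matrix (Fin 4) (Fin 4) F) * (B : Matrix (Fin 4) (Fin 4) F) = B * (jB : Matrix (Fin 4) (Fin 4) F) := by
  have hprime : Fact (Nat.Prime 3) := ⟨Nat.prime_three⟩
  obtain ⟨M, hM⟩ : ∃ M : Matrix (Fin 4) (Fin 4) F, M = x := ⟨_, rfl⟩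
  have hM3 : M * M * M = 1 := by
    have h := congrArg (fun g : GL (Fin 4) F => (g : Matrix (Fin 4) (Fin 4) F)) hx3
    simp only [Units.val_pow_eq_pow_val, Units.val_one, ← hM] at h
    rw [← h, pow_succ, pow_two]
  have hM1 : M ≠ 1 := fun h => hx1 (m_ext (by rw [← hM, h, Units.val_one]))
  rw [← hM] at hxq ⊢
  obtain ⟨K, hK⟩ : ∃ K, K = LinearMap.ker (Matrix.toLin' ((x : Matrix (Fin 4) (Fin 4) F) - 1)) := ⟨_, rfl⟩
  have hmemK : ∀ v, v ∈ K ↔ M *ᵥ v = v := by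
    intro v
    rw [hK, LinearMap.mem_ker, Matrix.toLin'_apply, Matrix.sub_mulVec, Matrix.one_mulVec, sub_eq_zero, hM]
  have hmod := fixed_space_modEq hx3
  rw [← hK, Fintype.card_fin] at hmod
  have hk4 : Module.finrank F K ≤ 4 := by
    have := Submodule.finrank_le K
    rwa [Module.finrank_fintype_fun_eq_card, Fintype.card_fin] at this
  have hex : ∀ N : Matrix (Fin 4) (Fin 4) F, N ≠ 0 → ∃ v, N *ᵥ v ≠ 0 := by
    intro N hN
    by_contra hcon
    push Not at hcon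
    apply hN
    apply Matrix.ext_of_mulVec_single
    intro j
    rw [hcon, Matrix.zero_mulVec]
  have hk : Module.finrank F K = 2 := by
    have hpos : Module.finrank F K ≠ 0 := by
      intro h
      rw [Submodule.finrank_eq_zero] at h
      obtain ⟨v, hv⟩ := hex _ hxq
      have h1 : (M * M + M + 1) *ᵥ v ∈ K := by
        rw [hmemK, Matrix.mulVec_mulVec]
        congr 1
        calc M * (M * M + M + 1) = M * M * M + M * M + M := by rw [mul_add, mul_add, mul_one, ← mul_assoc]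
          _ = M * M + M + 1 := by rw [hM3]; abel
      rw [h, Submodule.mem_bot] at h1
      exact hv h1
    have hne4 : Module.finrank F K ≠ 4 := by
      intro h
      have htop : K = ⊤ := by
        apply Submodule.eq_top_of_finrank_eq
        rw [h, Module.finrank_fintype_fun_eq_card, Fintype.card_fin]
      apply hM1
      apply Matrix.ext_of_mulVec_single
      intro j
      have h1 : (Pi.single j 1 : Fin 4 → F) ∈ K := by rw [htop]; trivial
      rw [(hmemK _).1 h1, Matrix.one_mulVec]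
    have h2 : ∀ k : ℕ, Fintype.card F ^ k % 3 = 2 ^ k % 3 := by
      intro k
      rw [Nat.pow_mod, hcard]
    rw [Nat.ModEq, h2, h2] at hmod
    generalize Module.finrank F K = k at *
    interval_cases k
    · exact absurd rfl hpos
    · norm_num at hmod
    · rfl
    · norm_num at hmod
    · exact absurd rfl hne4
  let β := Module.finBasisOfFinrankEq F K hk
  obtain ⟨u1, hu1⟩ : ∃ u1 : Fin 4 → F, u1 = (β 0 : K) := ⟨_, rfl⟩
  obtain ⟨u2, hu2⟩ : ∃ u2 : Fin 4 → F, u2 = (β 1 : K) := ⟨_, rfl⟩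
  have hu1K : M *ᵥ u1 = u1 := by rw [hu1]; exact (hmemK _).1 (β 0).2
  have hu2K : M *ᵥ u2 = u2 := by rw [hu2]; exact (hmemK _).1 (β 1).2
  have hu : ∀ c d : F, c • u1 + d • u2 = 0 → c = 0 ∧ d = 0 := by
    intro c d h
    have h1 := Fintype.linearIndependent_iff.1 β.linearIndependent ![c, d] (by
      rw [Fin.sum_univ_two]
      apply Subtype.ext
      rw [hu1, hu2] at h
      exact h)
    exact ⟨h1 0, h1 1⟩
  obtain ⟨v, hv⟩ := hex (M - 1) (sub_ne_zero.2 hM1)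
  obtain ⟨w1, hw1⟩ : ∃ w1, w1 = (M - 1) *ᵥ v := ⟨_, rfl⟩
  rw [← hw1] at hv
  have hquad : M *ᵥ (M *ᵥ w1) = (-1 : F) • w1 + (-1 : F) • (M *ᵥ w1) := by
    have h1 : (M * M + M + 1) * (M - 1) = 0 := by
      have : (M * M + M + 1) * (M - 1) = M * M * M - 1 := by noncomm_ring
      rw [this, hM3, sub_self]
    have h4 : (M * M + M + 1) *ᵥ w1 = 0 := by rw [hw1, Matrix.mulVec_mulVec, h1, Matrix.zero_mulVec]
    rw [Matrix.add_mulVec, Matrix.add_mulVec, Matrix.one_mulVec, ← Matrix.mulVec_mulVec] at h4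
    rw [← sub_eq_zero, ← h4, neg_smul, neg_smul, one_smul, one_smul]
    abel
  have hKinv : ∀ v ∈ K, M *ᵥ v ∈ K := by
    intro v hv
    rw [(hmemK v).1 hv]
    exact hv
  have hw1K : w1 ∉ K := by
    intro h
    rw [hmemK] at h
    rw [h, h] at hquad
    have h5 : (3 : F) • w1 = 0 := by
      calc (3 : F) • w1 = w1 - ((-1 : F) • w1 + (-1 : F) • w1) := by module
        _ = 0 := by rw [← hquad, sub_self]
    exact hv ((smul_eq_zero.1 h5).resolve_left h3)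
  have hli : LinearIndependent F ![w1, M *ᵥ w1, u1, u2] := by
    rw [Fintype.linearIndependent_iff]
    intro g hg
    rw [Fin.sum_univ_four] at hg
    simp only [Matrix.cons_val_zero, Matrix.cons_val_one, Matrix.cons_val_two, Matrix.cons_val_three, Matrix.head_cons,
      Matrix.tail_cons, Matrix.cons_val] at hg
    have h7 : g 0 = 0 ∧ g 1 = 0 := by
      by_contra hcon
      apply hw1K
      apply mem_of_quad hroot hKinv hquad hcon
      have h8 : g 0 • w1 + g 1 • (M *ᵥ w1) = -(g 2 • u1 + g 3 • u2) := by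
        rw [eq_neg_iff_add_eq_zero, ← hg]
        abel
      rw [h8]
      exact Submodule.neg_mem _ (Submodule.add_mem _ (Submodule.smul_mem _ _ ((hmemK _).2 hu1K))
        (Submodule.smul_mem _ _ ((hmemK _).2 hu2K)))
    rw [h7.1, h7.2, zero_smul, zero_smul, add_zero, zero_add] at hg
    obtain ⟨h8, h9⟩ := hu _ _ hg
    intro i
    fin_cases i
    · exact h7.1
    · exact h7.2
    · exact h8
    · exact h9
  obtain ⟨B, hB⟩ := exists_GL_of_li hli
  refine ⟨B, mul_of_cols (fun j => ?_)⟩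
  have e0 : (jB : Matrix (Fin 4) (Fin 4) F) *ᵥ Pi.single 0 1 = Pi.single 1 1 := by
    rw [jB_mulVec]; ext i; fin_cases i <;> simp
  have e1 : (jB : Matrix (Fin 4) (Fin 4) F) *ᵥ Pi.single 1 1 = (-1 : F) • Pi.single 0 1 + (-1 : F) • Pi.single 1 1 := by
    rw [jB_mulVec]; ext i; fin_cases i <;> simp
  have e2 : (jB : Matrix (Fin 4) (Fin 4) F) *ᵥ Pi.single 2 1 = Pi.single 2 1 := by
    rw [jB_mulVec]; ext i; fin_cases i <;> simp
  have e3 : (jB : Matrix (Fin 4) (Fin 4) F) *ᵥ Pi.single 3 1 = Pi.single 3 1 := by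
    rw [jB_mulVec]; ext i; fin_cases i <;> simp
  have hB0 : (B : Matrix (Fin 4) (Fin 4) F) *ᵥ Pi.single 0 1 = w1 := hB 0
  have hB1 : (B : Matrix (Fin 4) (Fin 4) F) *ᵥ Pi.single 1 1 = M *ᵥ w1 := hB 1
  have hB2 : (B : Matrix (Fin 4) (Fin 4) F) *ᵥ Pi.single 2 1 = u1 := hB 2
  have hB3 : (B : Matrix (Fin 4) (Fin 4) F) *ᵥ Pi.single 3 1 = u2 := hB 3
  fin_cases j
  · change M *ᵥ ((B : Matrix (Fin 4) (Fin 4) F) *ᵥ Pi.single 0 1) = B *ᵥ (jB *ᵥ Pi.single 0 1)
    rw [e0, hB0, hB1]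
  · change M *ᵥ ((B : Matrix (Fin 4) (Fin 4) F) *ᵥ Pi.single 1 1) = B *ᵥ (jB *ᵥ Pi.single 1 1)
    rw [e1, Matrix.mulVec_add, Matrix.mulVec_smul, Matrix.mulVec_smul, hB0, hB1, hquad]
  · change M *ᵥ ((B : Matrix (Fin 4) (Fin 4) F) *ᵥ Pi.single 2 1) = B *ᵥ (jB *ᵥ Pi.single 2 1)
    rw [e2, hB2, hu1K]
  · change M *ᵥ ((B : Matrix (Fin 4) (Fin 4) F) *ᵥ Pi.single 3 1) = B *ᵥ (jB *ᵥ Pi.single 3 1)
    rw [e3, hB3, hu2K]

end Cfsg.Agent.H960
end

-- part: H960/ThreeGL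
section
/-!
The classes of elements of order three of `GL_4(F)`, `|F| ≡ 2 (mod 3)`, under `SL_4(F)` (H960).
-/

set_option autoImplicit false
set_option linter.unusedSimpArgs false
open Cfsg Cfsg.Geo Matrix
open scoped MatrixGroups

namespace Cfsg.Agent.H960

variable {F : Type*} [Field F]

/-- elements with the same matrix in suitable frames are conjugate in `G0 ⊓ SL_n` -/
theorem conj_of_form {n : ℕ} {G0 : Subgroup (GL (Fin n) F)} {x y B C : GL (Fin n) F} {J : Matrix (Fin n) (Fin n) F}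
    (hx : (x : Matrix (Fin n) (Fin n) F) * (B : Matrix (Fin n) (Fin n) F) = B * J)
    (hy : (y : Matrix (Fin n) (Fin n) F) * (C : Matrix (Fin n) (Fin n) F) = C * J)
    (hBC : B * C⁻¹ ∈ G0) {D : GL (Fin n) F} (hD : (D : Matrix (Fin n) (Fin n) F) * J = J * D)
    (hDG : C * D * C⁻¹ ∈ G0)
    (hdet : ((B * C⁻¹ : GL (Fin n) F) : Matrix (Fin n) (Fin n) F).det * (D : Matrix (Fin n) (Fin n) F).det = 1) :
    ∃ g ∈ G0 ⊓ specialLinear (Fin n) F, g⁻¹ * x * g = y := by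
  have hS := conj_coe hx
  have hT := conj_coe hy
  have hST : B⁻¹ * x * B = C⁻¹ * y * C := m_ext (by rw [hS, hT])
  have hDT : D * (C⁻¹ * y * C) = (C⁻¹ * y * C) * D := by
    apply m_ext
    rw [Units.val_mul D, Units.val_mul _ D, hT, hD]
  refine conj_fix (B := B * C⁻¹) (D := C * D * C⁻¹) hBC ?_ hDG ?_ ?_
  · calc x * (B * C⁻¹) = B * (B⁻¹ * x * B) * C⁻¹ := by group
      _ = B * (C⁻¹ * y * C) * C⁻¹ := by rw [hST]
      _ = B * C⁻¹ * y := by group
  · calc C * D * C⁻¹ * y = C * (D * (C⁻¹ * y * C)) * C⁻¹ := by group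
      _ = C * ((C⁻¹ * y * C) * D) * C⁻¹ := by rw [hDT]
      _ = y * (C * D * C⁻¹) := by group
  · have h1 : (C : Matrix (Fin n) (Fin n) F).det * ((C⁻¹ : GL (Fin n) F) : Matrix (Fin n) (Fin n) F).det = 1 := by
      rw [← Matrix.det_mul, ← Units.val_mul, mul_inv_cancel, Units.val_one, Matrix.det_one]
    rw [Units.val_mul (C * D), Units.val_mul C D, Matrix.det_mul, Matrix.det_mul _ (D : Matrix (Fin n) (Fin n) F)]
    calc ((B * C⁻¹ : GL (Fin n) F) : Matrix (Fin n) (Fin n) F).det * ((C : Matrix (Fin n) (Fin n) F).det *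
          (D : Matrix (Fin n) (Fin n) F).det * ((C⁻¹ : GL (Fin n) F) : Matrix (Fin n) (Fin n) F).det) =
          (((B * C⁻¹ : GL (Fin n) F) : Matrix (Fin n) (Fin n) F).det * (D : Matrix (Fin n) (Fin n) F).det) *
          ((C : Matrix (Fin n) (Fin n) F).det * ((C⁻¹ : GL (Fin n) F) : Matrix (Fin n) (Fin n) F).det) := by ring
      _ = 1 := by rw [h1, hdet, one_mul]

theorem det_ne {n : ℕ} (g : GL (Fin n) F) : (g : Matrix (Fin n) (Fin n) F).det ≠ 0 :=
  (Matrix.GeneralLinearGroup.det g).ne_zero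

/-- block matrix commuting with `jA 1 1` and `jB` -/
def dm (α β : F) (c : F) : Matrix (Fin 4) (Fin 4) F := !![α, -β, 0, 0; β, α - β, 0, 0; 0, 0, c, 0; 0, 0, 0, 1]

theorem det_dm (α β c : F) : (dm α β c).det = (α * α - α * β + β * β) * c := by
  rw [Matrix.det_succ_row_zero]
  simp [dm, Fin.sum_univ_four, Matrix.det_fin_three, Matrix.submatrix_apply, Fin.succAbove]
  ring

theorem dm_jA (α β : F) : dm α β 1 * jA 1 1 = jA 1 1 * dm α β 1 := by
  ext i k
  fin_cases i <;> fin_cases k <;> simp [dm, jA, Matrix.mul_apply, Fin.sum_univ_four] <;> ring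

theorem dm_jB (c : F) : dm 1 0 c * (jB : Matrix (Fin 4) (Fin 4) F) = jB * dm 1 0 c := by
  ext i k
  fin_cases i <;> fin_cases k <;> simp [dm, jB, Matrix.mul_apply, Fin.sum_univ_four]

theorem exists_norm3 [Finite F] (h2 : (2 : F) ≠ 0) (h3 : (3 : F) ≠ 0) (c : F) :
    ∃ α β : F, α * α - α * β + β * β = c := by
  have h4 : (4 : F) ≠ 0 := by
    intro h
    have h5 : (2 : F) * 2 = 0 := by linear_combination h
    exact h2 (mul_self_eq_zero.1 h5)
  obtain ⟨x, y, hxy⟩ := Cfsg.Agent.ClassicalGeometry.SymmNormalForm.exists_diag_two_eq h2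
    (a := (1 : F)) (b := 3 / 4) one_ne_zero (div_ne_zero h3 h4) c
  refine ⟨x + y / 2, y, ?_⟩
  rw [← hxy]
  field_simp
  ring

theorem conj_typeA_GL [Finite F] (h2 : (2 : F) ≠ 0) (h3 : (3 : F) ≠ 0) (hroot : ∀ t : F, t * t + 1 * t + 1 ≠ 0)
    {x y : GL (Fin 4) F} (hx : (x : Matrix (Fin 4) (Fin 4) F) * x + x + 1 = 0)
    (hy : (y : Matrix (Fin 4) (Fin 4) F) * y + y + 1 = 0) :
    ∃ g ∈ (⊤ : Subgroup (GL (Fin 4) F)) ⊓ specialLinear (Fin 4) F, g⁻¹ * x * g = y := by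
  obtain ⟨B, hB⟩ := exists_frameA (M := (x : Matrix (Fin 4) (Fin 4) F)) (a := 1) (b := 1)
    (by rw [one_smul, one_smul]; exact hx) hroot
  obtain ⟨C, hC⟩ := exists_frameA (M := (y : Matrix (Fin 4) (Fin 4) F)) (a := 1) (b := 1)
    (by rw [one_smul, one_smul]; exact hy) hroot
  obtain ⟨α, β, hαβ⟩ := exists_norm3 h2 h3 (((B * C⁻¹ : GL (Fin 4) F) : Matrix (Fin 4) (Fin 4) F).det)⁻¹
  have hdet : (dm α β 1).det = (((B * C⁻¹ : GL (Fin 4) F) : Matrix (Fin 4) (Fin 4) F).det)⁻¹ := by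
    rw [det_dm, hαβ, mul_one]
  have hdet0 : (dm α β 1).det ≠ 0 := by
    rw [hdet]; exact inv_ne_zero (det_ne _)
  exact conj_of_form (D := Matrix.GeneralLinearGroup.mkOfDetNeZero (dm α β 1) hdet0) hB hC (Subgroup.mem_top _)
    (dm_jA α β) (Subgroup.mem_top _) (by
      change _ * (dm α β 1).det = 1
      rw [hdet, mul_inv_cancel₀ (det_ne _)])

theorem conj_typeB_GL [Fintype F] (hcard : Fintype.card F % 3 = 2) (h3 : (3 : F) ≠ 0)
    (hroot : ∀ t : F, t * t + 1 * t + 1 ≠ 0) {x y : GL (Fin 4) F} (hx3 : x ^ 3 = 1) (hx1 : x ≠ 1)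
    (hx : (x : Matrix (Fin 4) (Fin 4) F) * x + x + 1 ≠ 0) (hy3 : y ^ 3 = 1) (hy1 : y ≠ 1)
    (hy : (y : Matrix (Fin 4) (Fin 4) F) * y + y + 1 ≠ 0) :
    ∃ g ∈ (⊤ : Subgroup (GL (Fin 4) F)) ⊓ specialLinear (Fin 4) F, g⁻¹ * x * g = y := by
  obtain ⟨B, hB⟩ := exists_frameB hcard h3 hroot hx3 hx1 hx
  obtain ⟨C, hC⟩ := exists_frameB hcard h3 hroot hy3 hy1 hy
  obtain ⟨c, hc⟩ : ∃ c, c = (((B * C⁻¹ : GL (Fin 4) F) : Matrix (Fin 4) (Fin 4) F).det)⁻¹ := ⟨_, rfl⟩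
  have hdet : (dm 1 0 c).det = (((B * C⁻¹ : GL (Fin 4) F) : Matrix (Fin 4) (Fin 4) F).det)⁻¹ := by
    rw [det_dm, ← hc]; ring
  have hdet0 : (dm 1 0 c).det ≠ 0 := by
    rw [hdet]; exact inv_ne_zero (det_ne _)
  exact conj_of_form (D := Matrix.GeneralLinearGroup.mkOfDetNeZero (dm 1 0 c) hdet0) hB hC (Subgroup.mem_top _)
    (dm_jB c) (Subgroup.mem_top _) (by
      change _ * (dm 1 0 c).det = 1
      rw [hdet, mul_inv_cancel₀ (det_ne _)])

end Cfsg.Agent.H960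
end

-- part: H960/Fwd
section
/-!
Consequences of `Lhs (G0 ⊓ SL_4) R r` (H960).
-/

set_option autoImplicit false
set_option linter.unusedSimpArgs false
open Cfsg Cfsg.Geo Matrix
open scoped MatrixGroups

namespace Cfsg.Agent.H960

variable {F : Type*} [Field F]

theorem exists_j {R : Subgroup (GL (Fin 4) F)} (E : Ext R)
    (hZ : Nat.card (R ⊓ scalars (Fin 4) F : Subgroup (GL (Fin 4) F)) = 4) :
    ∃ j ∈ R, j ∈ scalars (Fin 4) F ∧ j * j = -1 := by
  have hfin := E.fin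
  have hfin' : Finite (R ⊓ scalars (Fin 4) F : Subgroup (GL (Fin 4) F)) :=
    Nat.finite_of_card_ne_zero (by rw [hZ]; norm_num)
  by_contra hcon
  push Not at hcon
  have h1 : ((R ⊓ scalars (Fin 4) F : Subgroup (GL (Fin 4) F)) : Set (GL (Fin 4) F)) ⊆ {1, -1} := by
    intro z hz
    obtain ⟨hzR, hzs⟩ := hz
    have h2 : z * z = 1 := (E.sq z hzR).resolve_right (hcon z hzR hzs)
    obtain ⟨c, hc⟩ := (mem_scalars_iff' _).1 hzs
    have h3 : c * c = 1 := by
      have h4 := congrArg (fun g : GL (Fin 4) F => (g : Matrix (Fin 4) (Fin 4) F) 0 0) h2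
      simp only [Units.val_mul, hc, Units.val_one, Matrix.smul_mul, Matrix.one_mul,
        Matrix.smul_apply, Matrix.one_apply_eq, smul_eq_mul, mul_one] at h4
      exact h4
    rcases mul_self_eq_one_iff.1 h3 with h | h
    · left
      exact m_ext (by rw [hc, h, one_smul, Units.val_one])
    · right
      exact m_ext (by rw [hc, h, neg_smul, one_smul, Units.val_neg, Units.val_one])
  have h2 : Nat.card (R ⊓ scalars (Fin 4) F : Subgroup (GL (Fin 4) F)) ≤ 2 := by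
    have h3 := Set.ncard_le_ncard h1 (Set.toFinite _)
    have h4 : ({1, -1} : Set (GL (Fin 4) F)).ncard ≤ 2 := (Set.ncard_insert_le _ _).trans (by rw [Set.ncard_singleton])
    rw [← Nat.card_coe_set_eq] at h3
    exact h3.trans h4
  omega

theorem nonscalar_of_sl {r : ℕ} (hr : r.Prime) (hr2 : r ≠ 2) {x : GL (Fin 4) F} (hx : x ∈ specialLinear (Fin 4) F)
    (hxr : x ^ r = 1) (hx1 : x ≠ 1) : x ∉ scalars (Fin 4) F := by
  intro hs
  obtain ⟨c, hc⟩ := (mem_scalars_iff' _).1 hs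
  have h1 := (mem_sl x).1 hx
  rw [hc, Matrix.det_smul, Matrix.det_one, Fintype.card_fin, mul_one] at h1
  have h4 : x ^ 4 = 1 := by
    apply m_ext
    rw [Units.val_pow_eq_pow_val, hc, smul_pow, h1, one_smul, one_pow, Units.val_one]
  exact hx1 (pow_eq_one_of_coprime h4 hxr (coprime_four hr hr2))

section

variable {G0 R : Subgroup (GL (Fin 4) F)} {r : ℕ} [Fact r.Prime]

theorem Lhs.use (L : Lhs (G0 ⊓ specialLinear (Fin 4) F) R r) (hr2 : r ≠ 2) {x : GL (Fin 4) F}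
    (hx : x ∈ G0 ⊓ specialLinear (Fin 4) F) (hxr : x ^ r = 1) (hx1 : x ≠ 1) :
    ∃ g : GL (Fin 4) F, g⁻¹ * x * g ∈ subgroupNormalizer R ∧ (g⁻¹ * x * g) ^ r = 1 ∧
      g⁻¹ * x * g ∉ scalars (Fin 4) F := by
  have hr : r.Prime := Fact.out
  have hxs := nonscalar_of_sl hr hr2 hx.2 hxr hx1
  obtain ⟨g, hg, hgN⟩ := L x hx (by rw [hxr]; exact (scalars (Fin 4) F).one_mem) hxs
  refine ⟨g, hgN, ?_, ?_⟩
  · have := conj_pow (i := r) (a := g⁻¹) (b := x)
    rw [inv_inv] at this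
    rw [this, hxr]; simp
  · intro h
    apply hxs
    have h1 : x = g * (g⁻¹ * x * g) * g⁻¹ := by group
    rw [h1, ← comm_of_scalar h, mul_inv_cancel_right]
    exact h

theorem Lhs.traces (E : Ext R) (hZ : Nat.card (R ⊓ scalars (Fin 4) F : Subgroup (GL (Fin 4) F)) = 4)
    (L : Lhs (G0 ⊓ specialLinear (Fin 4) F) R r) (hr2 : r ≠ 2) {x : GL (Fin 4) F}
    (hx : x ∈ G0 ⊓ specialLinear (Fin 4) F) (hxr : x ^ r = 1) (hx1 : x ≠ 1) :
    (r = 5 ∧ Matrix.trace (x : Matrix (Fin 4) (Fin 4) F) * Matrix.trace ((x⁻¹ : GL (Fin 4) F) : Matrix (Fin 4) (Fin 4) F) = 1) ∨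
    (r = 3 ∧ (Matrix.trace (x : Matrix (Fin 4) (Fin 4) F) * Matrix.trace ((x⁻¹ : GL (Fin 4) F) : Matrix (Fin 4) (Fin 4) F) = 1 ∨
      Matrix.trace (x : Matrix (Fin 4) (Fin 4) F) * Matrix.trace ((x⁻¹ : GL (Fin 4) F) : Matrix (Fin 4) (Fin 4) F) = 4)) := by
  obtain ⟨g, hgN, hgr, hgs⟩ := L.use hr2 hx hxr hx1
  have hcases := trace_cases E (by simp) (by rw [hZ]) hr2 hgN
    (by rw [hgr]; exact (scalars (Fin 4) F).one_mem) hgs
  have e1 : (g⁻¹ * x * g)⁻¹ = g⁻¹ * x⁻¹ * g := by group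
  rw [e1, conj_trace, conj_trace] at hcases
  rcases hcases with ⟨h, -, h'⟩ | ⟨h, ⟨-, h'⟩ | ⟨-, h'⟩⟩
  · exact Or.inl ⟨h, h'⟩
  · exact Or.inr ⟨h, Or.inl h'⟩
  · exact Or.inr ⟨h, Or.inr h'⟩

theorem Lhs.transv (E : Ext R) (L : Lhs (G0 ⊓ specialLinear (Fin 4) F) R r) (hr2 : r ≠ 2) {x : GL (Fin 4) F}
    (hx : x ∈ G0 ⊓ specialLinear (Fin 4) F) (hxr : x ^ r = 1) (hx1 : x ≠ 1) {a b : Fin 4 → F}
    (hxm : (x : Matrix (Fin 4) (Fin 4) F) = 1 + Matrix.vecMulVec a b)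
    (hNN : Matrix.vecMulVec a b * Matrix.vecMulVec a b = 0) : False := by
  obtain ⟨g, hgN, hgr, hgs⟩ := L.use hr2 hx hxr hx1
  have hconj : ((g⁻¹ : GL (Fin 4) F) : Matrix (Fin 4) (Fin 4) F) * Matrix.vecMulVec a b * (g : Matrix (Fin 4) (Fin 4) F) =
      Matrix.vecMulVec (((g⁻¹ : GL (Fin 4) F) : Matrix (Fin 4) (Fin 4) F) *ᵥ a) (b ᵥ* (g : Matrix (Fin 4) (Fin 4) F)) := by
    rw [Matrix.mul_vecMulVec, Matrix.vecMulVec_mul]
  have hgg : (g : Matrix (Fin 4) (Fin 4) F) * ((g⁻¹ : GL (Fin 4) F) : Matrix (Fin 4) (Fin 4) F) = 1 := by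
    rw [← Units.val_mul, mul_inv_cancel, Units.val_one]
  have hgg' : ((g⁻¹ : GL (Fin 4) F) : Matrix (Fin 4) (Fin 4) F) * (g : Matrix (Fin 4) (Fin 4) F) = 1 := by
    rw [← Units.val_mul, inv_mul_cancel, Units.val_one]
  have hm : ((g⁻¹ * x * g : GL (Fin 4) F) : Matrix (Fin 4) (Fin 4) F) = 1 +
      Matrix.vecMulVec (((g⁻¹ : GL (Fin 4) F) : Matrix (Fin 4) (Fin 4) F) *ᵥ a) (b ᵥ* (g : Matrix (Fin 4) (Fin 4) F)) := by
    rw [Units.val_mul, Units.val_mul, hxm, ← hconj, Matrix.mul_add, Matrix.add_mul, Matrix.mul_one, hgg']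
  have h0 := no_transvection E (by simp) hgN hm (by
    rw [← hconj]
    calc ((g⁻¹ : GL (Fin 4) F) : Matrix (Fin 4) (Fin 4) F) * Matrix.vecMulVec a b * (g : Matrix (Fin 4) (Fin 4) F) *
          (((g⁻¹ : GL (Fin 4) F) : Matrix (Fin 4) (Fin 4) F) * Matrix.vecMulVec a b * (g : Matrix (Fin 4) (Fin 4) F)) =
          ((g⁻¹ : GL (Fin 4) F) : Matrix (Fin 4) (Fin 4) F) * (Matrix.vecMulVec a b *
          ((g : Matrix (Fin 4) (Fin 4) F) * ((g⁻¹ : GL (Fin 4) F) : Matrix (Fin 4) (Fin 4) F)) * Matrix.vecMulVec a b) *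
          (g : Matrix (Fin 4) (Fin 4) F) := by simp only [Matrix.mul_assoc]
      _ = 0 := by rw [hgg, Matrix.mul_one, hNN, Matrix.mul_zero, Matrix.zero_mul])
  apply hgs
  have h1 : g⁻¹ * x * g = 1 := by
    apply m_ext
    rw [hm, h0, add_zero, Units.val_one]
  rw [h1]
  exact (scalars (Fin 4) F).one_mem

/-- the prime is `3` or `5` when it divides the order -/
theorem Lhs.three_or_five (E : Ext R) (hZ : Nat.card (R ⊓ scalars (Fin 4) F : Subgroup (GL (Fin 4) F)) = 4)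
    [Finite F] (L : Lhs (G0 ⊓ specialLinear (Fin 4) F) R r) (hr2 : r ≠ 2)
    (hΩ : r ∣ (subgroupNormalizer R).relIndex (G0 ⊓ specialLinear (Fin 4) F)) : r = 5 ∨ r = 3 := by
  have hr : r.Prime := Fact.out
  have hfinG : Finite (GL (Fin 4) F) := inferInstance
  have hrG : r ∣ Nat.card (G0 ⊓ specialLinear (Fin 4) F : Subgroup (GL (Fin 4) F)) :=
    hΩ.trans (Subgroup.relIndex_dvd_card _ _)
  obtain ⟨x0, hx0⟩ := exists_prime_orderOf_dvd_card' (G := (G0 ⊓ specialLinear (Fin 4) F : Subgroup (GL (Fin 4) F))) r hrG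
  have hx0r : (x0 : GL (Fin 4) F) ^ r = 1 := by
    have : x0 ^ r = 1 := orderOf_dvd_iff_pow_eq_one.1 (by rw [hx0])
    exact congrArg Subtype.val this
  have hx01 : (x0 : GL (Fin 4) F) ≠ 1 := by
    intro h
    have h1 : x0 = 1 := Subtype.ext h
    rw [h1, orderOf_one] at hx0
    exact hr.one_lt.ne hx0
  rcases L.traces E hZ hr2 x0.2 hx0r hx01 with h | h
  · exact Or.inl h.1
  · exact Or.inr h.1

end

/-! ### Two explicit elements -/

open Cfsg.Agent.LieClassical Cfsg.Agent.GH.Cov.LieU4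

theorem trace_ext1 {n : ℕ} (c : F) (A : Matrix (Fin n) (Fin n) F) : (GUOrder.ext1 c A).trace = c + A.trace := by
  rw [Matrix.trace, Fin.sum_univ_succ]
  simp [GUOrder.ext1, Matrix.trace]

/-- the embedding of `2 × 2` matrices -/
def emb4 (C : Matrix (Fin 2) (Fin 2) F) : Matrix (Fin 4) (Fin 4) F := GUOrder.ext1 (1 : F) (GUOrder.ext1 (1 : F) C)

theorem emb4_mul (C D : Matrix (Fin 2) (Fin 2) F) : emb4 C * emb4 D = emb4 (C * D) := by
  rw [emb4, emb4, emb4, ext1_mul, ext1_mul, one_mul]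

theorem emb4_one : emb4 (1 : Matrix (Fin 2) (Fin 2) F) = 1 := by
  rw [emb4, ext1_one, ext1_one]

theorem emb4_inj {C D : Matrix (Fin 2) (Fin 2) F} (h : emb4 C = emb4 D) : C = D := ext1_inj (ext1_inj h)

theorem emb4_det (C : Matrix (Fin 2) (Fin 2) F) : (emb4 C).det = C.det := by
  rw [emb4, GUOrder.det_ext1, GUOrder.det_ext1, one_mul, one_mul]

theorem emb4_trace (C : Matrix (Fin 2) (Fin 2) F) : (emb4 C).trace = C.trace + 2 := by
  rw [emb4, trace_ext1, trace_ext1]; ring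

/-- as a homomorphism -/
def emb4Hom : Matrix.SpecialLinearGroup (Fin 2) F →* GL (Fin 4) F where
  toFun C := ⟨emb4 C, emb4 (C⁻¹ : Matrix.SpecialLinearGroup (Fin 2) F), by
      rw [emb4_mul, ← Matrix.SpecialLinearGroup.coe_mul, mul_inv_cancel, Matrix.SpecialLinearGroup.coe_one, emb4_one],
    by rw [emb4_mul, ← Matrix.SpecialLinearGroup.coe_mul, inv_mul_cancel, Matrix.SpecialLinearGroup.coe_one, emb4_one]⟩
  map_one' := Units.ext (by
    change emb4 _ = 1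
    rw [Matrix.SpecialLinearGroup.coe_one, emb4_one])
  map_mul' C D := Units.ext (by
    change emb4 _ = emb4 _ * emb4 _
    rw [Matrix.SpecialLinearGroup.coe_mul, emb4_mul])

theorem emb4Hom_coe (C : Matrix.SpecialLinearGroup (Fin 2) F) :
    ((emb4Hom C : GL (Fin 4) F) : Matrix (Fin 4) (Fin 4) F) = emb4 C := rfl

theorem emb4Hom_mem (C : Matrix.SpecialLinearGroup (Fin 2) F) : emb4Hom C ∈ specialLinear (Fin 4) F := by
  rw [mem_sl, emb4Hom_coe, emb4_det, C.2]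

/-- an element of order five in `SL₂` gives an element without conjugates in `N(R)` -/
theorem Lhs.no_five {G0 R : Subgroup (GL (Fin 4) F)} (E : Ext R)
    (hZ : Nat.card (R ⊓ scalars (Fin 4) F : Subgroup (GL (Fin 4) F)) = 4) [Fact (Nat.Prime 5)]
    (L : Lhs (G0 ⊓ specialLinear (Fin 4) F) R 5) (h5F : (5 : F) ≠ 0)
    (C : Matrix.SpecialLinearGroup (Fin 2) F) (hCG : emb4Hom C ∈ G0) (hC5 : C ^ 5 = 1) (hC1 : C ≠ 1) : False := by
  have hCm : (C : Matrix (Fin 2) (Fin 2) F) ≠ 1 := fun h => hC1 (Subtype.ext h)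
  have hC5m : (C : Matrix (Fin 2) (Fin 2) F) ^ 5 = 1 := by
    rw [← Matrix.SpecialLinearGroup.coe_pow, hC5, Matrix.SpecialLinearGroup.coe_one]
  have htr := trace5 C.2 hC5m hCm
  have hx5 : (emb4Hom C) ^ 5 = 1 := by rw [← map_pow, hC5, map_one]
  have hx1 : emb4Hom C ≠ 1 := by
    intro h
    have h1 := congrArg (fun g : GL (Fin 4) F => (g : Matrix (Fin 4) (Fin 4) F)) h
    change emb4 (C : Matrix (Fin 2) (Fin 2) F) = 1 at h1
    rw [← emb4_one] at h1
    exact hCm (emb4_inj h1)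
  have hcases := L.traces E hZ (by norm_num) ⟨hCG, emb4Hom_mem C⟩ hx5 hx1
  rcases hcases with ⟨-, h⟩ | ⟨h, -⟩
  · rw [← map_inv, emb4Hom_coe, emb4Hom_coe, emb4_trace, emb4_trace] at h
    have e2 : ((C⁻¹ : Matrix.SpecialLinearGroup (Fin 2) F) : Matrix (Fin 2) (Fin 2) F).trace =
        (C : Matrix (Fin 2) (Fin 2) F).trace := by
      rw [Matrix.SpecialLinearGroup.coe_inv, Matrix.adjugate_fin_two]
      simp [Matrix.trace, Fin.sum_univ_two, add_comm]
    rw [e2] at h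
    exact trace5_ne h5F htr h
  · norm_num at h

/-- a cube root of unity gives an element without conjugates in `N(R)` -/
theorem Lhs.no_three {G0 R : Subgroup (GL (Fin 4) F)} {U : F → Prop} (hA : Amb G0 U) (E : Ext R)
    (hZ : Nat.card (R ⊓ scalars (Fin 4) F : Subgroup (GL (Fin 4) F)) = 4) [Fact (Nat.Prime 3)]
    (L : Lhs (G0 ⊓ specialLinear (Fin 4) F) R 3) (h2 : (2 : F) ≠ 0) (h3 : (3 : F) ≠ 0) {ω : F} (hω : ω * ω + ω + 1 = 0)
    (hU : U ω) : False := by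
  have hω3 : ω * ω * ω = 1 := by linear_combination (ω - 1) * hω
  have hω1 : ω ≠ 1 := by
    rintro rfl
    apply h3
    linear_combination hω
  have hω0 : ω ≠ 0 := by
    rintro rfl
    apply one_ne_zero (α := F)
    linear_combination hω
  obtain ⟨x, hx, hxm⟩ := hA.diag ![1, ω, ω, ω] (fun i => by fin_cases i; exacts [hA.one, hU, hU, hU])
  have hxdet : (x : Matrix (Fin 4) (Fin 4) F).det = 1 := by
    rw [hxm, Matrix.det_diagonal, Fin.prod_univ_four]
    simp only [Matrix.cons_val_zero, Matrix.cons_val_one, Matrix.cons_val_two, Matrix.cons_val_three, Matrix.head_cons,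
      Matrix.tail_cons, Matrix.cons_val]
    linear_combination hω3
  have hxx : (x : Matrix (Fin 4) (Fin 4) F) * Matrix.diagonal ![1, ω⁻¹, ω⁻¹, ω⁻¹] = 1 := by
    rw [hxm, Matrix.diagonal_mul_diagonal, ← Matrix.diagonal_one]
    congr 1
    ext i
    fin_cases i <;> simp [hω0]
  have hxinv : ((x⁻¹ : GL (Fin 4) F) : Matrix (Fin 4) (Fin 4) F) = Matrix.diagonal ![1, ω⁻¹, ω⁻¹, ω⁻¹] := by
    have h1 : ((x⁻¹ : GL (Fin 4) F) : Matrix (Fin 4) (Fin 4) F) * (x : Matrix (Fin 4) (Fin 4) F) = 1 := by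
      rw [← Units.val_mul, inv_mul_cancel, Units.val_one]
    calc ((x⁻¹ : GL (Fin 4) F) : Matrix (Fin 4) (Fin 4) F) = ((x⁻¹ : GL (Fin 4) F) : Matrix (Fin 4) (Fin 4) F) *
          ((x : Matrix (Fin 4) (Fin 4) F) * Matrix.diagonal ![1, ω⁻¹, ω⁻¹, ω⁻¹]) := by rw [hxx, Matrix.mul_one]
      _ = _ := by rw [← Matrix.mul_assoc, h1, Matrix.one_mul]
  have hx3 : x ^ 3 = 1 := by
    apply m_ext
    rw [Units.val_pow_eq_pow_val, hxm, Matrix.diagonal_pow, Units.val_one, ← Matrix.diagonal_one]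
    congr 1
    ext i
    fin_cases i
    · simp
    · simp only [Pi.pow_apply]
      change ω ^ 3 = 1
      linear_combination hω3
    · change ω ^ 3 = 1
      linear_combination hω3
    · change ω ^ 3 = 1
      linear_combination hω3
  have hx1 : x ≠ 1 := by
    intro h
    have h1 := congrArg (fun g : GL (Fin 4) F => (g : Matrix (Fin 4) (Fin 4) F) 1 1) h
    simp only [hxm, Matrix.diagonal_apply_eq, Units.val_one, Matrix.one_apply_eq] at h1
    exact hω1 h1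
  have hcases := L.traces E hZ (by norm_num) ⟨hx, (mem_sl x).2 hxdet⟩ hx3 hx1
  have hinv : ω⁻¹ = ω * ω := by
    rw [inv_eq_iff_eq_inv, eq_comm, inv_eq_of_mul_eq_one_right]
    exact hω3
  have htr : Matrix.trace (x : Matrix (Fin 4) (Fin 4) F) * Matrix.trace ((x⁻¹ : GL (Fin 4) F) : Matrix (Fin 4) (Fin 4) F) = 7 := by
    rw [hxinv, hxm, Matrix.trace_diagonal, Matrix.trace_diagonal, Fin.sum_univ_four, Fin.sum_univ_four]
    simp only [Matrix.cons_val_zero, Matrix.cons_val_one, Matrix.cons_val_two, Matrix.cons_val_three, Matrix.head_cons,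
      Matrix.tail_cons, Matrix.cons_val, hinv]
    linear_combination 9 * hω3 + 3 * hω
  rw [htr] at hcases
  rcases hcases with ⟨h, -⟩ | ⟨-, h | h⟩
  · norm_num at h
  · have h6 : (2 : F) * 3 = 0 := by linear_combination h
    exact (mul_ne_zero h2 h3) h6
  · apply h3
    linear_combination h

end Cfsg.Agent.H960
end

-- part: H960/FiveCase
section
/-!
Elements `x` with `x ^ 5` scalar are conjugate into `N(R)` when elements of order five have no fixed vectors;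
roots of unity (H960).
-/

set_option autoImplicit false
set_option linter.unusedSimpArgs false
open Cfsg Cfsg.Geo Matrix
open scoped MatrixGroups

namespace Cfsg.Agent.H960

variable {F : Type*} [Field F]

/-- elements of order five modulo scalars -/
theorem five_case [Finite F] {G0 : Subgroup (GL (Fin 4) F)} {U : F → Prop}
    {R : Subgroup (GL (Fin 4) F)} (h2 : (2 : F) ≠ 0) (h5 : (5 : F) ≠ 0) (E : Ext R) (hA : Amb G0 U) (S : Adm G0)
    (hR : R ≤ G0) {u v s t : GL (Fin 4) F} (P : Pauli R u v s t)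
    (hnorm : ∀ x ∈ G0 ⊓ specialLinear (Fin 4) F, x ^ 5 = 1 → x ≠ 1 →
      ∑ k ∈ Finset.range 5, (x : Matrix (Fin 4) (Fin 4) F) ^ k = 0) :
    Lhs (G0 ⊓ specialLinear (Fin 4) F) R 5 := by
  have hfact : Fact (Nat.Prime 5) := ⟨Nat.prime_five⟩
  have hfin := E.fin
  obtain ⟨w, hw⟩ : ∃ w, w = w5 h2 P := ⟨_, rfl⟩
  have hwG : w ∈ G0 := by rw [hw]; exact S _ (fun st S => w5_mem S hR h2 P)
  have hwN : w ∈ subgroupNormalizer R := by rw [hw]; exact w5_mem_normalizer h2 P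
  have hwns : w ∉ scalars (Fin 4) F := by rw [hw]; exact w5_not_scalar h2 P
  have hws : w ^ 5 ∈ scalars (Fin 4) F := by rw [hw]; exact w5_pow_scalar E.c1 h2 P
  have hdetsc : ∀ (z : GL (Fin 4) F) (a : F), (z : Matrix (Fin 4) (Fin 4) F) = a • (1 : Matrix (Fin 4) (Fin 4) F) →
      (z : Matrix (Fin 4) (Fin 4) F).det = a ^ 4 := by
    intro z a h
    rw [h, Matrix.det_smul, Matrix.det_one, Fintype.card_fin, mul_one]
  have hdetpow : ∀ (z : GL (Fin 4) F) (k : ℕ), ((z ^ k : GL (Fin 4) F) : Matrix (Fin 4) (Fin 4) F).det =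
      (z : Matrix (Fin 4) (Fin 4) F).det ^ k := by
    intro z k
    rw [Units.val_pow_eq_pow_val, Matrix.det_pow]
  have hdetinv : ∀ z : GL (Fin 4) F, ((z⁻¹ : GL (Fin 4) F) : Matrix (Fin 4) (Fin 4) F).det *
      (z : Matrix (Fin 4) (Fin 4) F).det = 1 := by
    intro z
    rw [← Matrix.det_mul, ← Units.val_mul, inv_mul_cancel, Units.val_one, Matrix.det_one]
  -- normalise `w`
  obtain ⟨w', hw'G, hw'N, hw'5, hw'1⟩ : ∃ w' ∈ G0 ⊓ specialLinear (Fin 4) F, w' ∈ subgroupNormalizer R ∧ w' ^ 5 = 1 ∧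
      w' ≠ 1 := by
    obtain ⟨δ, hδ⟩ : ∃ δ, δ = (w : Matrix (Fin 4) (Fin 4) F).det := ⟨_, rfl⟩
    have hδ0 : δ ≠ 0 := by rw [hδ]; exact det_ne w
    have hUδ := hA.det w hwG
    rw [← hδ] at hUδ
    obtain ⟨d, hd, hdm⟩ := hA.diag (fun _ => δ) (fun _ => hUδ)
    have hdm' : (d : Matrix (Fin 4) (Fin 4) F) = δ • (1 : Matrix (Fin 4) (Fin 4) F) := by
      rw [hdm, Matrix.smul_one_eq_diagonal]
    have hds : d ∈ scalars (Fin 4) F := (mem_scalars_iff' _).2 ⟨δ, hdm'⟩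
    obtain ⟨lam, hlam⟩ := (mem_scalars_iff' _).1 hws
    have hlam4 : lam ^ 4 = δ ^ 5 := by
      rw [← hdetsc _ _ hlam, hdetpow, hδ]
    have hlam0 : lam ≠ 0 := by
      rintro rfl
      rw [zero_pow (by norm_num)] at hlam4
      exact pow_ne_zero 5 hδ0 hlam4.symm
    have hwinvs : (w ^ 5)⁻¹ ∈ scalars (Fin 4) F := (scalars (Fin 4) F).inv_mem hws
    have hscal : d * (w ^ 5)⁻¹ ∈ scalars (Fin 4) F := (scalars (Fin 4) F).mul_mem hds hwinvs
    refine ⟨d * (w ^ 5)⁻¹ * w, ⟨G0.mul_mem (G0.mul_mem hd (G0.inv_mem (G0.pow_mem hwG 5))) hwG, ?_⟩,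
      (subgroupNormalizer R).mul_mem (scalars_le_normalizer R hscal) hwN, ?_, ?_⟩
    · show d * (w ^ 5)⁻¹ * w ∈ specialLinear (Fin 4) F
      rw [mem_sl, Units.val_mul, Units.val_mul, Matrix.det_mul, Matrix.det_mul, hdetsc _ _ hdm', ← hδ]
      have h1 := hdetinv (w ^ 5)
      rw [hdetpow, ← hδ] at h1
      linear_combination h1
    · have hc : Commute (d * (w ^ 5)⁻¹) w := comm_of_scalar hscal w
      have hc2 : Commute d (w ^ 5)⁻¹ := comm_of_scalar hds _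
      rw [hc.mul_pow, hc2.mul_pow]
      have h1 : d ^ 5 = (w ^ 5) ^ 4 := by
        apply m_ext
        rw [Units.val_pow_eq_pow_val, Units.val_pow_eq_pow_val (w ^ 5), hdm', hlam, smul_pow, smul_pow, hlam4]
        simp only [one_pow]
      rw [h1]
      group
    · intro h
      apply hwns
      have h1 : w = (d * (w ^ 5)⁻¹)⁻¹ := (inv_eq_of_mul_eq_one_right h).symm
      rw [h1]
      exact (scalars (Fin 4) F).inv_mem hscal
  intro x hx hxr hxs
  have hxdet : (x : Matrix (Fin 4) (Fin 4) F).det = 1 := (mem_sl x).1 hx.2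
  obtain ⟨lam, hlam⟩ := (mem_scalars_iff' _).1 hxr
  have hlam4 : lam ^ 4 = 1 := by
    rw [← hdetsc _ _ hlam, hdetpow, hxdet, one_pow]
  obtain ⟨z, hz⟩ : ∃ z, z = x ^ 5 := ⟨_, rfl⟩
  rw [← hz] at hxr hlam
  have hz4 : z ^ 4 = 1 := by
    apply m_ext
    rw [Units.val_pow_eq_pow_val, hlam, smul_pow, hlam4, one_smul, one_pow, Units.val_one]
  have hzdet : (z : Matrix (Fin 4) (Fin 4) F).det = 1 := by rw [hdetsc _ _ hlam, hlam4]
  have hzi : z⁻¹ ∈ scalars (Fin 4) F := (scalars (Fin 4) F).inv_mem hxr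
  have hzG : z ∈ G0 := by rw [hz]; exact G0.pow_mem hx.1 5
  have hx'G : z⁻¹ * x ∈ G0 ⊓ specialLinear (Fin 4) F := by
    refine ⟨G0.mul_mem (G0.inv_mem hzG) hx.1, ?_⟩
    show z⁻¹ * x ∈ specialLinear (Fin 4) F
    have h1 := hdetinv z
    rw [hzdet, mul_one] at h1
    rw [mem_sl, Units.val_mul, Matrix.det_mul, h1, hxdet, one_mul]
  have hx'5 : (z⁻¹ * x) ^ 5 = 1 := by
    have hc : Commute z⁻¹ x := comm_of_scalar hzi x
    rw [hc.mul_pow, ← hz]
    have h1 : z⁻¹ ^ 5 * z = (z ^ 4)⁻¹ := by group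
    rw [h1, hz4, inv_one]
  obtain ⟨g, hg, hgN⟩ := conj_into (G := G0 ⊓ specialLinear (Fin 4) F) (N := subgroupNormalizer R) (r := 5)
    (by exact_mod_cast h5) hnorm (y := w') hw'G hw'N hw'5 hw'1 (x := z⁻¹ * x) hx'G hx'5
  refine ⟨g, hg, ?_⟩
  have h1 : g⁻¹ * x * g = z * (g⁻¹ * (z⁻¹ * x) * g) := by
    have h3 : z * g⁻¹ = g⁻¹ * z := comm_of_scalar hxr _
    calc g⁻¹ * x * g = g⁻¹ * z * (z⁻¹ * x) * g := by group
      _ = z * g⁻¹ * (z⁻¹ * x) * g := by rw [h3]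
      _ = _ := by group
  rw [h1]
  exact (subgroupNormalizer R).mul_mem (scalars_le_normalizer R hxr) hgN

/-! ### Roots of unity -/

theorem exists_omega [Fintype F] (h : 3 ∣ Fintype.card F - 1) : ∃ ω : F, ω * ω + ω + 1 = 0 := by
  classical
  have hfact : Fact (Nat.Prime 3) := ⟨Nat.prime_three⟩
  have h1 : 3 ∣ Nat.card Fˣ := by rwa [Nat.card_eq_fintype_card, Fintype.card_units]
  obtain ⟨w, hw⟩ := exists_prime_orderOf_dvd_card' (G := Fˣ) 3 h1
  have hw3 : (w : F) ^ 3 = 1 := by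
    rw [← Units.val_pow_eq_pow_val, orderOf_dvd_iff_pow_eq_one.1 (by rw [hw]), Units.val_one]
  have hw1 : (w : F) ≠ 1 := by
    intro h
    have h2 : w = 1 := Units.ext h
    rw [h2, orderOf_one] at hw
    norm_num at hw
  refine ⟨w, ?_⟩
  have h2 : ((w : F) - 1) * ((w : F) * w + w + 1) = 0 := by linear_combination hw3
  exact (mul_eq_zero.1 h2).resolve_left (sub_ne_zero.2 hw1)

theorem no_omega [Fintype F] (h3 : (3 : F) ≠ 0) (h : Fintype.card F % 3 = 2) (t : F) : t * t + 1 * t + 1 ≠ 0 := by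
  intro ht
  have ht3 : t ^ 3 = 1 := by linear_combination (t - 1) * ht
  have ht1 : t ≠ 1 := by
    rintro rfl
    apply h3
    linear_combination ht
  have ht0 : t ≠ 0 := by
    rintro rfl
    rw [zero_pow (by norm_num)] at ht3
    exact zero_ne_one ht3
  have hpow : t ^ (Fintype.card F - 1) = 1 := FiniteField.pow_card_sub_one_eq_one t ht0
  have hco : Nat.Coprime 3 (Fintype.card F - 1) := by
    rw [Nat.Prime.coprime_iff_not_dvd Nat.prime_three]
    omega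
  apply ht1
  have h5 : orderOf t ∣ Nat.gcd 3 (Fintype.card F - 1) :=
    Nat.dvd_gcd (orderOf_dvd_of_pow_eq_one ht3) (orderOf_dvd_of_pow_eq_one hpow)
  rw [hco] at h5
  exact orderOf_eq_one_iff.1 (Nat.dvd_one.1 h5)

end Cfsg.Agent.H960
end
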