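import Mathlib
import Cfsg.Agent.H960.GUMisc
set_option linter.all false

-- part: H960/Grp27
section
/-!
Nonabelian groups of order 27 (H960): commutators are central, non-commuting elements generate.
-/

set_option autoImplicit false

namespace Cfsg.Agent.H960

theorem comm_of_card {G : Type*} [Group G] (h : Nat.card G = 1 ∨ Nat.card G = 3 ∨ Nat.card G = 9) (a b : G) :
    a * b = b * a := by
  have h3 : Fact (Nat.Prime 3) := ⟨Nat.prime_three⟩
  rcases h with h | h | h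
  · have := (Nat.card_eq_one_iff_unique.1 h).1
    exact Subsingleton.elim _ _
  · have hc : IsCyclic G := isCyclic_of_prime_card h
    exact (IsCyclic.commGroup (α := G)).mul_comm a b
  · have := IsPGroup.isMulCommutative_of_card_eq_prime_sq (p := 3) (G := G) (by rw [h]; norm_num)
    exact mul_comm' a b

theorem dvd27 {n : ℕ} (h : n ∣ 27) : n = 1 ∨ n = 3 ∨ n = 9 ∨ n = 27 := by
  have h1 : n ∣ 3 ^ 3 := by norm_num; exact h
  obtain ⟨k, hk, rfl⟩ := (Nat.dvd_prime_pow Nat.prime_three).1 h1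
  interval_cases k <;> norm_num

/-- non-commuting elements generate -/
theorem closure_of_noncomm {G : Type*} [Group G] {R : Subgroup G} (hR : Nat.card R = 27) {a b : G} (ha : a ∈ R)
    (hb : b ∈ R) (hab : a * b ≠ b * a) : ∀ g ∈ R, g ∈ Subgroup.closure {a, b} := by
  have hfin : Finite R := Nat.finite_of_card_ne_zero (by rw [hR]; norm_num)
  have hle : Subgroup.closure {a, b} ≤ R := by
    rw [Subgroup.closure_le]
    rintro x (rfl | hx)
    · exact ha
    · rw [Set.mem_singleton_iff] at hx; rw [hx]; exact hb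
  have hdvd : Nat.card (Subgroup.closure {a, b}) ∣ 27 := by
    rw [← hR]
    exact Subgroup.card_dvd_of_le hle
  have haT : a ∈ Subgroup.closure {a, b} := Subgroup.subset_closure (Or.inl rfl)
  have hbT : b ∈ Subgroup.closure {a, b} := Subgroup.subset_closure (Or.inr rfl)
  have h27 : Nat.card (Subgroup.closure {a, b}) = 27 := by
    rcases dvd27 hdvd with h | h | h | h
    · exact absurd (congrArg Subtype.val (comm_of_card (Or.inl h) (⟨a, haT⟩ : Subgroup.closure {a, b}) ⟨b, hbT⟩)) hab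
    · exact absurd (congrArg Subtype.val (comm_of_card (Or.inr (Or.inl h)) (⟨a, haT⟩ : Subgroup.closure {a, b}) ⟨b, hbT⟩)) hab
    · exact absurd (congrArg Subtype.val (comm_of_card (Or.inr (Or.inr h)) (⟨a, haT⟩ : Subgroup.closure {a, b}) ⟨b, hbT⟩)) hab
    · exact h
  have heq : Subgroup.closure {a, b} = R := by
    apply Subgroup.eq_of_le_of_card_ge hle
    rw [hR, h27]
  intro g hg
  rw [heq]
  exact hg

/-- commutators are central -/
theorem comm_central {G : Type*} [Group G] (hG : Nat.card G = 27) (hna : ∃ a b : G, a * b ≠ b * a) (a b : G) :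
    a * b * a⁻¹ * b⁻¹ ∈ Subgroup.center G := by
  have h3 : Fact (Nat.Prime 3) := ⟨Nat.prime_three⟩
  have hfin : Finite G := Nat.finite_of_card_ne_zero (by rw [hG]; norm_num)
  have hnt : Nontrivial G := by
    rw [← Finite.one_lt_card_iff_nontrivial, hG]; norm_num
  have hp : IsPGroup 3 G := IsPGroup.of_card (n := 3) (by rw [hG]; norm_num)
  have hdvd : Nat.card (Subgroup.center G) ∣ 27 := by
    rw [← hG]
    exact Subgroup.card_subgroup_dvd_card _
  have hmul := Subgroup.card_eq_card_quotient_mul_card_subgroup (Subgroup.center G)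
  rw [hG] at hmul
  have hnc : ¬ ∀ x y : G, x * y = y * x := by
    obtain ⟨x, y, hxy⟩ := hna
    exact fun h => hxy (h x y)
  have hc3 : Nat.card (Subgroup.center G) = 3 := by
    rcases dvd27 hdvd with h | h | h | h
    · exfalso
      have := IsPGroup.center_nontrivial hp
      rw [← Finite.one_lt_card_iff_nontrivial, h] at this
      norm_num at this
    · exact h
    · exfalso
      rw [h] at hmul
      have hq : Nat.card (G ⧸ Subgroup.center G) = 3 := by omega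
      have hcyc : IsCyclic (G ⧸ Subgroup.center G) := isCyclic_of_prime_card hq
      apply hnc
      intro x y
      have := MonoidHom.isMulCommutative_of_isCyclic_of_ker_le_center (QuotientGroup.mk' (Subgroup.center G)) (by rw [QuotientGroup.ker_mk'])
      exact mul_comm' x y
    · exfalso
      have htop : Subgroup.center G = ⊤ := Subgroup.eq_top_of_card_eq _ (by rw [h, hG])
      apply hnc
      intro x y
      have : y ∈ Subgroup.center G := by rw [htop]; trivial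
      exact (Subgroup.mem_center_iff.1 this x)
  rw [hc3] at hmul
  have hq : Nat.card (G ⧸ Subgroup.center G) = 9 := by omega
  rw [← QuotientGroup.eq_one_iff]
  have h1 := comm_of_card (Or.inr (Or.inr hq)) (a : G ⧸ Subgroup.center G) b
  rw [QuotientGroup.mk_mul, QuotientGroup.mk_mul, QuotientGroup.mk_mul, QuotientGroup.mk_inv, QuotientGroup.mk_inv, h1]
  group

end Cfsg.Agent.H960
end

-- part: H960/Heis
section
/-!
Subgroups of order 27 of `GL_3(F)` in monomial form (H960).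
-/

set_option autoImplicit false
set_option linter.unusedSimpArgs false
open Cfsg Cfsg.Geo Matrix
open scoped MatrixGroups

namespace Cfsg.Agent.H960

variable {F : Type*} [Field F]

/-- the diagonal generator -/
def A0 (ω : F) : Matrix (Fin 3) (Fin 3) F := Matrix.diagonal ![1, ω, ω * ω]

/-- the cyclic permutation matrix -/
def C0 : Matrix (Fin 3) (Fin 3) F := !![0, 0, 1; 1, 0, 0; 0, 1, 0]

theorem C0_mulVec (v : Fin 3 → F) : C0 *ᵥ v = ![v 2, v 0, v 1] := by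
  ext i
  fin_cases i <;> simp [C0, Matrix.mulVec, dotProduct, Fin.sum_univ_three]

/-- `R` in monomial form with respect to the frame `Q` -/
structure Heis (R : Subgroup (GL (Fin 3) F)) (Q a b : GL (Fin 3) F) (ω : F) : Prop where
  hω : ω * ω + ω + 1 = 0
  ha : a ∈ R
  hb : b ∈ R
  aQ : (a : Matrix (Fin 3) (Fin 3) F) * (Q : Matrix (Fin 3) (Fin 3) F) = Q * A0 ω
  bQ : (b : Matrix (Fin 3) (Fin 3) F) * (Q : Matrix (Fin 3) (Fin 3) F) = Q * (C0 : Matrix (Fin 3) (Fin 3) F)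
  gen : ∀ g ∈ R, g ∈ Subgroup.closure {a, b}

theorem eig3_li (h3 : (3 : F) ≠ 0) {ω : F} (hω : ω * ω + ω + 1 = 0) {A : Matrix (Fin 3) (Fin 3) F} {α : F}
    (hα : α ≠ 0) {e0 e1 e2 : Fin 3 → F} (h0 : e0 ≠ 0) (h1 : e1 ≠ 0) (h2 : e2 ≠ 0) (a0 : A *ᵥ e0 = α • e0)
    (a1 : A *ᵥ e1 = (α * ω) • e1) (a2 : A *ᵥ e2 = (α * (ω * ω)) • e2) : LinearIndependent F ![e0, e1, e2] := by
  obtain ⟨hω1, hω2, hω12, hω0⟩ := omega_ne h3 hω
  apply Module.End.eigenvectors_linearIndependent' (Matrix.toLin' A) ![α, α * ω, α * (ω * ω)]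
  · have b1 : α ≠ α * ω := fun h => hω1 (mul_left_cancel₀ hα ((mul_one α).trans h)).symm
    have b2 : α ≠ α * (ω * ω) := fun h => hω2 (mul_left_cancel₀ hα ((mul_one α).trans h)).symm
    have b3 : α * ω ≠ α * (ω * ω) := fun h => hω12 (mul_left_cancel₀ hα h)
    intro i j hij
    fin_cases i <;> fin_cases j
    · rfl
    · exact absurd hij b1
    · exact absurd hij b2
    · exact absurd hij b1.symm
    · rfl
    · exact absurd hij b3
    · exact absurd hij b2.symm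
    · exact absurd hij b3.symm
    · rfl
  · intro i
    rw [Module.End.hasEigenvector_iff, Module.End.mem_eigenspace_iff, Matrix.toLin'_apply]
    fin_cases i
    · exact ⟨a0, h0⟩
    · exact ⟨a1, h1⟩
    · exact ⟨a2, h2⟩

/-- a noncommutative group of order 27 and exponent 3 is in monomial form in a suitable frame -/
theorem exists_heis (h3 : (3 : F) ≠ 0) {ω₀ : F} (hω₀ : ω₀ * ω₀ + ω₀ + 1 = 0) {R : Subgroup (GL (Fin 3) F)}
    (hR : Nat.card R = 27) (hRe : ∀ g ∈ R, g ^ 3 = 1) (hna : ∃ a ∈ R, ∃ b ∈ R, a * b ≠ b * a) :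
    ∃ (Q a b : GL (Fin 3) F) (ω : F), Heis R Q a b ω := by
  obtain ⟨a, ha, b, hb, hab⟩ := hna
  have hcen : ∀ x ∈ R, ∀ y ∈ R, ∀ g ∈ R, g * (x * y * x⁻¹ * y⁻¹) = (x * y * x⁻¹ * y⁻¹) * g := by
    intro x hx y hy g hg
    have h1 := comm_central hR ⟨⟨a, ha⟩, ⟨b, hb⟩, fun h => hab (congrArg Subtype.val h)⟩ (⟨x, hx⟩ : R) ⟨y, hy⟩
    exact congrArg Subtype.val (Subgroup.mem_center_iff.1 h1 ⟨g, hg⟩)
  have hprim := prim_omega h3 hω₀
  obtain ⟨z, hz⟩ : ∃ z, z = a * b * a⁻¹ * b⁻¹ := ⟨_, rfl⟩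
  have hzR : z ∈ R := by rw [hz]; exact R.mul_mem (R.mul_mem (R.mul_mem ha hb) (R.inv_mem ha)) (R.inv_mem hb)
  have hz1 : z ≠ 1 := by
    intro h
    apply hab
    rw [hz, mul_inv_eq_one, mul_inv_eq_iff_eq_mul] at h
    exact h
  have hza : a * z = z * a := by rw [hz]; exact hcen a ha b hb a ha
  have hzb : b * z = z * b := by rw [hz]; exact hcen a ha b hb b hb
  have habz : a * b = z * (b * a) := by rw [hz]; group
  have e3 : ∀ g ∈ R, (g : Matrix (Fin 3) (Fin 3) F) ^ 3 = 1 := by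
    intro g hg
    rw [← Units.val_pow_eq_pow_val, hRe g hg, Units.val_one]
  -- an eigenvector of `z`
  obtain ⟨D, s, hs, hD⟩ := exists_diag_GL hprim (by norm_num) (by exact_mod_cast h3) (e3 z hzR)
  obtain ⟨i, hi⟩ : ∃ i, s i ≠ 1 := by
    by_contra hcon
    push Not at hcon
    apply hz1
    apply m_ext
    rw [eq_of_diag hD hcon, one_smul, Units.val_one]
  obtain ⟨lam, hlam⟩ : ∃ lam, lam = s i := ⟨_, rfl⟩
  rw [← hlam] at hi
  have hlam3 : lam ^ 3 = 1 := by rw [hlam]; exact hs i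
  have hlq : lam * lam + lam + 1 = 0 := by
    have h1 : (lam - 1) * (lam * lam + lam + 1) = 0 := by linear_combination hlam3
    exact (mul_eq_zero.1 h1).resolve_left (sub_ne_zero.2 hi)
  obtain ⟨v, hv⟩ : ∃ v, v = (D : Matrix (Fin 3) (Fin 3) F) *ᵥ Pi.single i 1 := ⟨_, rfl⟩
  have hinj : ∀ (g : GL (Fin 3) F) (x : Fin 3 → F), (g : Matrix (Fin 3) (Fin 3) F) *ᵥ x = 0 → x = 0 := by
    intro g x h
    calc x = ((g⁻¹ : GL (Fin 3) F) : Matrix (Fin 3) (Fin 3) F) *ᵥ ((g : Matrix (Fin 3) (Fin 3) F) *ᵥ x) := by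
          rw [Matrix.mulVec_mulVec, ← Units.val_mul, inv_mul_cancel, Units.val_one, Matrix.one_mulVec]
      _ = 0 := by rw [h, Matrix.mulVec_zero]
  have hv0 : v ≠ 0 := by
    intro h
    have h1 := congrFun (hinj D _ (hv.symm.trans h)) i
    rw [Pi.single_eq_same, Pi.zero_apply] at h1
    exact one_ne_zero h1
  have hzv : (z : Matrix (Fin 3) (Fin 3) F) *ᵥ v = lam • v := by
    have hd : (Matrix.diagonal s : Matrix (Fin 3) (Fin 3) F) *ᵥ (Pi.single i 1) = s i • (Pi.single i 1 : Fin 3 → F) := by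
      ext k
      rw [Matrix.mulVec_diagonal, Pi.smul_apply, smul_eq_mul]
      by_cases hik : k = i
      · rw [hik]
      · rw [Pi.single_eq_of_ne hik, mul_zero, mul_zero]
    rw [hv, Matrix.mulVec_mulVec, hD, ← Matrix.mulVec_mulVec, hd, Matrix.mulVec_smul, hlam]
  -- an eigenvector of `a` among them
  obtain ⟨j, hj⟩ : ∃ j, proj ω₀ 3 (a : Matrix (Fin 3) (Fin 3) F) j *ᵥ v ≠ 0 := by
    by_contra hcon
    push Not at hcon
    have h1 := congrArg (fun M : Matrix (Fin 3) (Fin 3) F => M *ᵥ v)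
      (sum_proj hprim (by norm_num) (a : Matrix (Fin 3) (Fin 3) F))
    simp only [Matrix.sum_mulVec, hcon, Finset.sum_const_zero, Matrix.smul_mulVec, Matrix.one_mulVec] at h1
    have h2 := (smul_eq_zero.1 h1.symm).resolve_left (by exact_mod_cast h3)
    exact hv0 h2
  obtain ⟨w, hw⟩ : ∃ w, w = proj ω₀ 3 (a : Matrix (Fin 3) (Fin 3) F) j *ᵥ v := ⟨_, rfl⟩
  rw [← hw] at hj
  obtain ⟨α, hα⟩ : ∃ α, α = ω₀ ^ j := ⟨_, rfl⟩
  have hα3 : α ^ 3 = 1 := by rw [hα, ← pow_mul, mul_comm, pow_mul, hprim.pow_eq_one, one_pow]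
  have hα0 : α ≠ 0 := by
    rintro rfl
    rw [zero_pow (by norm_num)] at hα3
    exact zero_ne_one hα3
  have haw : (a : Matrix (Fin 3) (Fin 3) F) *ᵥ w = α • w := by
    rw [hw, Matrix.mulVec_mulVec, mul_proj hprim.pow_eq_one (by norm_num) (e3 a ha), Matrix.smul_mulVec, hα]
  have hzw : (z : Matrix (Fin 3) (Fin 3) F) *ᵥ w = lam • w := by
    have hc : Commute (z : Matrix (Fin 3) (Fin 3) F) (a : Matrix (Fin 3) (Fin 3) F) := by
      rw [Commute, SemiconjBy, ← Units.val_mul, ← hza, Units.val_mul]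
    have hc2 : Commute (z : Matrix (Fin 3) (Fin 3) F) (proj ω₀ 3 (a : Matrix (Fin 3) (Fin 3) F) j) :=
      Commute.sum_right _ _ _ (fun k _ => (hc.smul_right _).pow_right k)
    rw [hw, Matrix.mulVec_mulVec, hc2.eq, ← Matrix.mulVec_mulVec, hzv, Matrix.mulVec_smul]
  have mab : ∀ x : Fin 3 → F, (a : Matrix (Fin 3) (Fin 3) F) *ᵥ ((b : Matrix (Fin 3) (Fin 3) F) *ᵥ x) =
      (z : Matrix (Fin 3) (Fin 3) F) *ᵥ ((b : Matrix (Fin 3) (Fin 3) F) *ᵥ ((a : Matrix (Fin 3) (Fin 3) F) *ᵥ x)) := by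
    intro x
    rw [Matrix.mulVec_mulVec, Matrix.mulVec_mulVec, Matrix.mulVec_mulVec, ← Units.val_mul, ← Units.val_mul,
      ← Units.val_mul, habz, mul_assoc]
  have mzb : ∀ x : Fin 3 → F, (z : Matrix (Fin 3) (Fin 3) F) *ᵥ ((b : Matrix (Fin 3) (Fin 3) F) *ᵥ x) =
      (b : Matrix (Fin 3) (Fin 3) F) *ᵥ ((z : Matrix (Fin 3) (Fin 3) F) *ᵥ x) := by
    intro x
    rw [Matrix.mulVec_mulVec, Matrix.mulVec_mulVec, ← Units.val_mul, ← Units.val_mul, hzb]
  obtain ⟨e1, he1⟩ : ∃ e1, e1 = (b : Matrix (Fin 3) (Fin 3) F) *ᵥ w := ⟨_, rfl⟩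
  obtain ⟨e2, he2⟩ : ∃ e2, e2 = (b : Matrix (Fin 3) (Fin 3) F) *ᵥ e1 := ⟨_, rfl⟩
  have he10 : e1 ≠ 0 := fun h => hj (hinj b w (he1.symm.trans h))
  have he20 : e2 ≠ 0 := fun h => he10 (hinj b e1 (he2.symm.trans h))
  have hz1' : (z : Matrix (Fin 3) (Fin 3) F) *ᵥ e1 = lam • e1 := by rw [he1, mzb, hzw, Matrix.mulVec_smul]
  have hz2' : (z : Matrix (Fin 3) (Fin 3) F) *ᵥ e2 = lam • e2 := by rw [he2, mzb, hz1', Matrix.mulVec_smul]
  have ha1 : (a : Matrix (Fin 3) (Fin 3) F) *ᵥ e1 = (α * lam) • e1 := by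
    rw [he1, mab, haw, Matrix.mulVec_smul, ← he1, Matrix.mulVec_smul, hz1', smul_smul]
  have ha2 : (a : Matrix (Fin 3) (Fin 3) F) *ᵥ e2 = (α * (lam * lam)) • e2 := by
    rw [he2, mab, ha1, Matrix.mulVec_smul, ← he2, Matrix.mulVec_smul, hz2', smul_smul, mul_assoc]
  have hb2 : (b : Matrix (Fin 3) (Fin 3) F) *ᵥ e2 = w := by
    rw [he2, he1, Matrix.mulVec_mulVec, Matrix.mulVec_mulVec, ← pow_two, ← pow_succ, e3 b hb,
      Matrix.one_mulVec]
  obtain ⟨Q, hQ⟩ := exists_GL_of_li (eig3_li h3 hlq hα0 hj he10 he20 haw ha1 ha2)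
  have hQ0 : (Q : Matrix (Fin 3) (Fin 3) F) *ᵥ Pi.single 0 1 = w := hQ 0
  have hQ1 : (Q : Matrix (Fin 3) (Fin 3) F) *ᵥ Pi.single 1 1 = e1 := hQ 1
  have hQ2 : (Q : Matrix (Fin 3) (Fin 3) F) *ᵥ Pi.single 2 1 = e2 := hQ 2
  have hdiag : ∀ (g : Matrix (Fin 3) (Fin 3) F) (t : Fin 3 → F), g *ᵥ w = t 0 • w → g *ᵥ e1 = t 1 • e1 →
      g *ᵥ e2 = t 2 • e2 → g * (Q : Matrix (Fin 3) (Fin 3) F) = Q * Matrix.diagonal t := by
    intro g t h0 h1 h2
    apply mul_of_cols
    intro k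
    have hd : (Matrix.diagonal t : Matrix (Fin 3) (Fin 3) F) *ᵥ (Pi.single k 1) = t k • (Pi.single k 1 : Fin 3 → F) := by
      ext l
      rw [Matrix.mulVec_diagonal, Pi.smul_apply, smul_eq_mul]
      by_cases hik : l = k
      · rw [hik]
      · rw [Pi.single_eq_of_ne hik, mul_zero, mul_zero]
    rw [hd, Matrix.mulVec_smul, hQ]
    fin_cases k
    · exact h0
    · exact h1
    · exact h2
  have hbQ : (b : Matrix (Fin 3) (Fin 3) F) * (Q : Matrix (Fin 3) (Fin 3) F) = Q * (C0 : Matrix (Fin 3) (Fin 3) F) := by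
    apply mul_of_cols
    intro k
    have c0 : (C0 : Matrix (Fin 3) (Fin 3) F) *ᵥ Pi.single 0 1 = Pi.single 1 1 := by
      rw [C0_mulVec]; ext l; fin_cases l <;> simp
    have c1 : (C0 : Matrix (Fin 3) (Fin 3) F) *ᵥ Pi.single 1 1 = Pi.single 2 1 := by
      rw [C0_mulVec]; ext l; fin_cases l <;> simp
    have c2 : (C0 : Matrix (Fin 3) (Fin 3) F) *ᵥ Pi.single 2 1 = Pi.single 0 1 := by
      rw [C0_mulVec]; ext l; fin_cases l <;> simp
    fin_cases k
    · change (b : Matrix (Fin 3) (Fin 3) F) *ᵥ ((Q : Matrix (Fin 3) (Fin 3) F) *ᵥ Pi.single 0 1) =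
        (Q : Matrix (Fin 3) (Fin 3) F) *ᵥ ((C0 : Matrix (Fin 3) (Fin 3) F) *ᵥ Pi.single 0 1)
      rw [c0, hQ0, hQ1, he1]
    · change (b : Matrix (Fin 3) (Fin 3) F) *ᵥ ((Q : Matrix (Fin 3) (Fin 3) F) *ᵥ Pi.single 1 1) =
        (Q : Matrix (Fin 3) (Fin 3) F) *ᵥ ((C0 : Matrix (Fin 3) (Fin 3) F) *ᵥ Pi.single 1 1)
      rw [c1, hQ1, hQ2, he2]
    · change (b : Matrix (Fin 3) (Fin 3) F) *ᵥ ((Q : Matrix (Fin 3) (Fin 3) F) *ᵥ Pi.single 2 1) =
        (Q : Matrix (Fin 3) (Fin 3) F) *ᵥ ((C0 : Matrix (Fin 3) (Fin 3) F) *ᵥ Pi.single 2 1)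
      rw [c2, hQ2, hQ0, hb2]
  have hzs : (z : Matrix (Fin 3) (Fin 3) F) = lam • (1 : Matrix (Fin 3) (Fin 3) F) := by
    have h1 := hdiag (z : Matrix (Fin 3) (Fin 3) F) (fun _ => lam) hzw hz1' hz2'
    exact eq_of_diag h1 (fun _ => rfl)
  have haQ : (a : Matrix (Fin 3) (Fin 3) F) * (Q : Matrix (Fin 3) (Fin 3) F) = α • (Q * A0 lam) := by
    have h1 := hdiag (a : Matrix (Fin 3) (Fin 3) F) ![α, α * lam, α * (lam * lam)] haw ha1 ha2
    rw [h1, ← Matrix.mul_smul, A0, ← Matrix.diagonal_smul]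
    congr 2
    ext k
    fin_cases k <;> simp
  obtain ⟨k, hk⟩ : ∃ k : ℕ, lam ^ k * α = 1 := by
    rcases cube_cases hlq hα3 with h | h | h
    · exact ⟨0, by rw [h]; ring⟩
    · exact ⟨2, by rw [h]; linear_combination hlam3⟩
    · exact ⟨1, by rw [h]; linear_combination hlam3⟩
  have hzk : ((z ^ k * a : GL (Fin 3) F) : Matrix (Fin 3) (Fin 3) F) * (Q : Matrix (Fin 3) (Fin 3) F) = Q * A0 lam := by
    rw [Units.val_mul, Units.val_pow_eq_pow_val, hzs, smul_pow, one_pow, Matrix.smul_mul, Matrix.one_mul,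
      Matrix.smul_mul, haQ, smul_smul, hk, one_smul]
  have hzkR : z ^ k * a ∈ R := R.mul_mem (R.pow_mem hzR k) ha
  refine ⟨Q, z ^ k * a, b, lam, hlq, hzkR, hb, hzk, hbQ, ?_⟩
  apply closure_of_noncomm hR hzkR hb
  intro h
  apply hab
  have hc : b * z ^ k = z ^ k * b := ((show Commute b z from hzb).pow_right k).eq
  rw [mul_assoc, ← mul_assoc b, hc, mul_assoc] at h
  exact mul_left_cancel h

end Cfsg.Agent.H960
end

-- part: H960/HeisN
section
/-!
The normaliser of a subgroup of order 27 of `GL_3(F)` in monomial form (H960).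
-/

set_option autoImplicit false
set_option linter.unusedSimpArgs false
open Cfsg Cfsg.Geo Matrix
open scoped MatrixGroups

namespace Cfsg.Agent.H960

open Cfsg.Agent.LieClassical.HermBasic

variable {F : Type*} [Field F]

/-- the frame can be chosen unitary -/
theorem Heis.exists_GU [Fintype F] {q : ℕ} (hF : Fintype.card F = q ^ 2) (hq : 3 ∣ q + 1) (h3 : (3 : F) ≠ 0)
    {R : Subgroup (GL (Fin 3) F)} (hRU : R ≤ GU 3 F q) {Q a b : GL (Fin 3) F} {ω : F} (H : Heis R Q a b ω) :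
    ∃ Q' ∈ GU 3 F q, Heis R Q' a b ω := by
  have hω := H.hω
  obtain ⟨hω1, hω2, hω12, hω0⟩ := omega_ne h3 hω
  have hω3 : ω * ω * ω = 1 := by linear_combination (ω - 1) * hω
  have hωq : ω ^ q = ω * ω := by
    obtain ⟨k, hk⟩ := hq
    have h1 : ω ^ q * ω = 1 := by
      rw [← pow_succ, hk, pow_mul]
      have : ω ^ 3 = 1 := by linear_combination hω3
      rw [this, one_pow]
    calc ω ^ q = ω ^ q * (ω * ω * ω) := by rw [hω3, mul_one]
      _ = (ω ^ q * ω) * (ω * ω) := by ring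
      _ = ω * ω := by rw [h1, one_mul]
  obtain ⟨e, he⟩ : ∃ e : Fin 3 → (Fin 3 → F), e = fun i => (Q : Matrix (Fin 3) (Fin 3) F) *ᵥ Pi.single i 1 := ⟨_, rfl⟩
  have hei : ∀ i, (Q : Matrix (Fin 3) (Fin 3) F) *ᵥ Pi.single i 1 = e i := fun i => by rw [he]
  have haI := iso_of_mem (hRU H.ha)
  have hbI := iso_of_mem (hRU H.hb)
  have ha : ∀ i, (a : Matrix (Fin 3) (Fin 3) F) *ᵥ e i = (![1, ω, ω * ω] : Fin 3 → F) i • e i := by
    intro i
    rw [← hei, Matrix.mulVec_mulVec, H.aQ, ← Matrix.mulVec_mulVec, ← Matrix.mulVec_smul, A0]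
    congr 1
    ext k
    rw [Matrix.mulVec_diagonal, Pi.smul_apply, smul_eq_mul]
    by_cases hik : k = i
    · rw [hik]
    · rw [Pi.single_eq_of_ne hik, mul_zero, mul_zero]
  have hb0 : (b : Matrix (Fin 3) (Fin 3) F) *ᵥ e 0 = e 1 := by
    rw [← hei, Matrix.mulVec_mulVec, H.bQ, ← Matrix.mulVec_mulVec, ← hei, C0_mulVec]
    congr 1; ext l; fin_cases l <;> simp
  have hb1 : (b : Matrix (Fin 3) (Fin 3) F) *ᵥ e 1 = e 2 := by
    rw [← hei, Matrix.mulVec_mulVec, H.bQ, ← Matrix.mulVec_mulVec, ← hei, C0_mulVec]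
    congr 1; ext l; fin_cases l <;> simp
  obtain ⟨c, hc⟩ : ∃ c, c = hermForm 3 F q (e 0) (e 0) := ⟨_, rfl⟩
  have h00 : hermForm 3 F q (e 0) (e 0) = c := hc.symm
  have h11 : hermForm 3 F q (e 1) (e 1) = c := by rw [← hb0, hbI, hc]
  have h22 : hermForm 3 F q (e 2) (e 2) = c := by rw [← hb1, hbI, h11]
  have hne : ∀ i j, (![1, ω, ω * ω] : Fin 3 → F) i * (![1, ω, ω * ω] : Fin 3 → F) j ^ q ≠ 1 →
      hermForm 3 F q (e i) (e j) = 0 := fun i j h => herm_eig haI (ha i) (ha j) h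
  have hgram : stU hF (Q : Matrix (Fin 3) (Fin 3) F) * Q = c • (1 : Matrix (Fin 3) (Fin 3) F) := by
    apply gram_eq hF hei
    intro i j
    fin_cases i <;> fin_cases j
    · exact h00.trans (by simp)
    · exact (hne 1 0 (by simpa using hω1)).trans (by simp)
    · exact (hne 2 0 (by simpa using hω2)).trans (by simp)
    · exact (hne 0 1 (by
        change 1 * ω ^ q ≠ 1
        rw [hωq, one_mul]; exact hω2)).trans (by simp)
    · exact h11.trans (by simp)
    · exact (hne 2 1 (by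
        change (ω * ω) * ω ^ q ≠ 1
        rw [hωq]
        intro h
        exact hω1 (by linear_combination h - ω * hω3))).trans (by simp)
    · exact (hne 0 2 (by
        change 1 * (ω * ω) ^ q ≠ 1
        rw [mul_pow, hωq, one_mul]
        intro h
        exact hω1 (by linear_combination h - ω * hω3))).trans (by simp)
    · exact (hne 1 2 (by
        change ω * (ω * ω) ^ q ≠ 1
        rw [mul_pow, hωq]
        intro h
        exact hω2 (by linear_combination h - ω * ω * hω3))).trans (by simp)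
    · exact h22.trans (by simp)
  have hc0 : c ≠ 0 := by
    rintro rfl
    rw [zero_smul] at hgram
    have h1 := congrArg Matrix.det hgram
    rw [Matrix.det_mul, Matrix.det_zero] at h1
    rcases mul_eq_zero.1 h1 with h | h
    · have h2 : (stU hF (Q : Matrix (Fin 3) (Fin 3) F)).det = ((Q : Matrix (Fin 3) (Fin 3) F).det) ^ q := by
        rw [stU, Matrix.det_transpose, ← conj_apply hF, RingEquiv.map_det]
        rfl
      rw [h2, pow_q_eq_zero hF] at h
      exact det_ne Q h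
    · exact det_ne Q h
  have hcq : c ^ q = c := by rw [hc, herm_self_pow hF]
  obtain ⟨μ, hμ0, hμ⟩ := exists_norm_eq_ne hF hcq hc0
  obtain ⟨m, -, hm⟩ := (Amb.top (F := F) 3).diag (fun _ => μ⁻¹) (fun _ => inv_ne_zero hμ0)
  rw [← Matrix.smul_one_eq_diagonal] at hm
  have hmQ : ((m * Q : GL (Fin 3) F) : Matrix (Fin 3) (Fin 3) F) = μ⁻¹ • (Q : Matrix (Fin 3) (Fin 3) F) := by
    rw [Units.val_mul, hm, Matrix.smul_mul, Matrix.one_mul]
  refine ⟨m * Q, ?_, ⟨hω, H.ha, H.hb, ?_, ?_, H.gen⟩⟩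
  · rw [(stU_star hF).mem, hmQ]
    have h1 : stU hF (μ⁻¹ • (Q : Matrix (Fin 3) (Fin 3) F)) = (μ⁻¹) ^ q • stU hF (Q : Matrix (Fin 3) (Fin 3) F) := by
      ext i k
      rw [stU_apply, Matrix.smul_apply, Matrix.smul_apply, stU_apply, smul_eq_mul, smul_eq_mul, mul_pow]
    rw [h1, smul_mul_smul_comm, hgram, smul_smul, ← hμ, inv_pow]
    have : μ ^ q ≠ 0 := pow_ne_zero _ hμ0
    have h4 : (μ ^ q)⁻¹ * μ⁻¹ * (μ * μ ^ q) = 1 := by field_simp
    rw [h4, one_smul]
  · rw [hmQ, Matrix.mul_smul, H.aQ, Matrix.smul_mul]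
  · rw [hmQ, Matrix.mul_smul, H.bQ, Matrix.smul_mul]

theorem A0_eq (ω : F) : A0 ω = !![1, 0, 0; 0, ω, 0; 0, 0, ω * ω] := by
  ext i j
  fin_cases i <;> fin_cases j <;> simp [A0]

theorem A0_C0 {ω : F} (hω : ω * ω + ω + 1 = 0) : A0 ω * C0 = ω • (C0 * A0 ω) := by
  have hω3 : ω * (ω * ω) = 1 := by linear_combination (ω - 1) * hω
  rw [A0_eq]
  ext i j
  fin_cases i <;> fin_cases j <;> simp [C0, Matrix.mul_apply, Fin.sum_univ_three, hω3]

section Norm

variable {R : Subgroup (GL (Fin 3) F)} {Q a b : GL (Fin 3) F} {ω : F} (H : Heis R Q a b ω)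
include H

theorem Heis.mem_normalizer [Finite R] {y a' b' : GL (Fin 3) F} (ha' : a' ∈ R) (hb' : b' ∈ R)
    (ha : y * a = a' * y) (hb : y * b = b' * y) : y ∈ subgroupNormalizer R := by
  apply mem_normalizer_of_gens H.gen
  rintro t (rfl | ht)
  · rwa [ha, mul_inv_cancel_right]
  · rw [Set.mem_singleton_iff] at ht
    rw [ht, hb, mul_inv_cancel_right]
    exact hb'

omit H in
/-- equations between words can be checked in the frame -/
theorem Heis.eq_of_frame {x y : GL (Fin 3) F} (h : (x : Matrix (Fin 3) (Fin 3) F) * (Q : Matrix (Fin 3) (Fin 3) F) =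
    (y : Matrix (Fin 3) (Fin 3) F) * (Q : Matrix (Fin 3) (Fin 3) F)) : x = y := by
  have h1 : x * Q = y * Q := m_ext h
  exact mul_right_cancel h1

/-- the commutator is the scalar `ω` -/
theorem Heis.comm : ∃ z ∈ R, (z : Matrix (Fin 3) (Fin 3) F) = ω • (1 : Matrix (Fin 3) (Fin 3) F) := by
  refine ⟨a * b * (b * a)⁻¹, R.mul_mem (R.mul_mem H.ha H.hb) (R.inv_mem (R.mul_mem H.hb H.ha)), ?_⟩
  have h1 : ((a * b : GL (Fin 3) F) : Matrix (Fin 3) (Fin 3) F) = ω • ((b * a : GL (Fin 3) F) : Matrix (Fin 3) (Fin 3) F) := by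
    have h2 : ((a * b : GL (Fin 3) F) : Matrix (Fin 3) (Fin 3) F) * (Q : Matrix (Fin 3) (Fin 3) F) =
        (ω • ((b * a : GL (Fin 3) F) : Matrix (Fin 3) (Fin 3) F)) * (Q : Matrix (Fin 3) (Fin 3) F) := by
      rw [Units.val_mul, Units.val_mul, Matrix.mul_assoc, H.bQ, ← Matrix.mul_assoc, H.aQ, Matrix.smul_mul,
        Matrix.mul_assoc (b : Matrix (Fin 3) (Fin 3) F), H.aQ, ← Matrix.mul_assoc, H.bQ, Matrix.mul_assoc, Matrix.mul_assoc,
        ← Matrix.mul_smul]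
      rw [A0_C0 H.hω]
    calc ((a * b : GL (Fin 3) F) : Matrix (Fin 3) (Fin 3) F) = ((a * b : GL (Fin 3) F) : Matrix (Fin 3) (Fin 3) F) *
          (Q : Matrix (Fin 3) (Fin 3) F) * ((Q⁻¹ : GL (Fin 3) F) : Matrix (Fin 3) (Fin 3) F) := by
          rw [Matrix.mul_assoc, ← Units.val_mul Q, mul_inv_cancel, Units.val_one, Matrix.mul_one]
      _ = _ := by rw [h2, Matrix.mul_assoc, ← Units.val_mul Q, mul_inv_cancel, Units.val_one, Matrix.mul_one]
  rw [Units.val_mul, h1, Matrix.smul_mul, ← Units.val_mul, mul_inv_cancel, Units.val_one]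

/-- a matrix commuting with `R` is scalar -/
theorem Heis.scalar_of_comm (h3 : (3 : F) ≠ 0) {y : GL (Fin 3) F} (hya : y * a = a * y) (hyb : y * b = b * y) :
    y ∈ scalars (Fin 3) F := by
  obtain ⟨hω1, hω2, hω12, hω0⟩ := omega_ne h3 H.hω
  -- work in the frame
  obtain ⟨Y, hY⟩ : ∃ Y : Matrix (Fin 3) (Fin 3) F, Y = ((Q⁻¹ * y * Q : GL (Fin 3) F) : Matrix (Fin 3) (Fin 3) F) := ⟨_, rfl⟩
  have e1 := conj_coe H.aQ
  have e2 := conj_coe H.bQ
  have f1 : Y * A0 ω = A0 ω * Y := by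
    rw [hY, ← e1, ← Units.val_mul, ← Units.val_mul]
    congr 1
    calc Q⁻¹ * y * Q * (Q⁻¹ * a * Q) = Q⁻¹ * (y * a) * Q := by group
      _ = Q⁻¹ * a * Q * (Q⁻¹ * y * Q) := by rw [hya]; group
  have f2 : Y * C0 = C0 * Y := by
    rw [hY, ← e2, ← Units.val_mul, ← Units.val_mul]
    congr 1
    calc Q⁻¹ * y * Q * (Q⁻¹ * b * Q) = Q⁻¹ * (y * b) * Q := by group
      _ = Q⁻¹ * b * Q * (Q⁻¹ * y * Q) := by rw [hyb]; group
  have g : ∀ i j, Y i j * (![1, ω, ω * ω] : Fin 3 → F) j = (![1, ω, ω * ω] : Fin 3 → F) i * Y i j := by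
    intro i j
    have h := congrFun (congrFun f1 i) j
    rwa [A0, Matrix.mul_diagonal, Matrix.diagonal_mul] at h
  have g01 : Y 0 1 * ω = 1 * Y 0 1 := g 0 1
  have g02 : Y 0 2 * (ω * ω) = 1 * Y 0 2 := g 0 2
  have g10 : Y 1 0 * 1 = ω * Y 1 0 := g 1 0
  have g12 : Y 1 2 * (ω * ω) = ω * Y 1 2 := g 1 2
  have g20 : Y 2 0 * 1 = (ω * ω) * Y 2 0 := g 2 0
  have g21 : Y 2 1 * ω = (ω * ω) * Y 2 1 := g 2 1
  have k10 := congrFun (congrFun f2 1) 0
  have k21 := congrFun (congrFun f2 2) 1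
  simp [C0, Matrix.mul_apply, Fin.sum_univ_three] at k10 k21
  have z01 : Y 0 1 = 0 := by
    have : (ω - 1) * Y 0 1 = 0 := by linear_combination g01
    exact (mul_eq_zero.1 this).resolve_left (sub_ne_zero.2 hω1)
  have z02 : Y 0 2 = 0 := by
    have : (ω * ω - 1) * Y 0 2 = 0 := by linear_combination g02
    exact (mul_eq_zero.1 this).resolve_left (sub_ne_zero.2 hω2)
  have z10 : Y 1 0 = 0 := by
    have : (ω - 1) * Y 1 0 = 0 := by linear_combination -g10
    exact (mul_eq_zero.1 this).resolve_left (sub_ne_zero.2 hω1)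
  have z12 : Y 1 2 = 0 := by
    have : (ω - ω * ω) * Y 1 2 = 0 := by linear_combination -g12
    exact (mul_eq_zero.1 this).resolve_left (sub_ne_zero.2 hω12)
  have z20 : Y 2 0 = 0 := by
    have : (ω * ω - 1) * Y 2 0 = 0 := by linear_combination -g20
    exact (mul_eq_zero.1 this).resolve_left (sub_ne_zero.2 hω2)
  have z21 : Y 2 1 = 0 := by
    have : (ω - ω * ω) * Y 2 1 = 0 := by linear_combination g21
    exact (mul_eq_zero.1 this).resolve_left (sub_ne_zero.2 hω12)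
  have hYs : Y = Y 0 0 • (1 : Matrix (Fin 3) (Fin 3) F) := by
    ext i j
    fin_cases i <;> fin_cases j <;> simp [z01, z02, z10, z12, z20, z21, k10, k21]
  have hconj : y = Q * (Q⁻¹ * y * Q) * Q⁻¹ := by group
  rw [hconj]
  have hs : Q⁻¹ * y * Q ∈ scalars (Fin 3) F := (mem_scalars_iff' _).2 ⟨Y 0 0, by rw [← hY]; exact hYs⟩
  rw [← comm_of_scalar hs, mul_inv_cancel_right]
  exact hs

end Norm

end Cfsg.Agent.H960
end

-- part: H960/HeisCases
section
/-!
Elements of order two and three modulo scalars are conjugate into `N(R)`, `|R| = 27` (H960).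
-/

set_option autoImplicit false
set_option linter.unusedSimpArgs false
open Cfsg Cfsg.Geo Matrix
open scoped MatrixGroups

namespace Cfsg.Agent.H960

variable {F : Type*} [Field F]

/-- minus the transposition -/
def P0 : Matrix (Fin 3) (Fin 3) F := !![-1, 0, 0; 0, 0, -1; 0, -1, 0]

/-- the diagonal matrix `(1, 1, ω)` -/
def T0 (ω : F) : Matrix (Fin 3) (Fin 3) F := Matrix.diagonal ![1, 1, ω]

theorem T0_eq (ω : F) : T0 ω = !![1, 0, 0; 0, 1, 0; 0, 0, ω] := by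
  ext i j
  fin_cases i <;> fin_cases j <;> simp [T0]

theorem P0_A0 {ω : F} (hω : ω * ω + ω + 1 = 0) : P0 * A0 ω = A0 ω * A0 ω * P0 := by
  have hω3 : ω * ω * (ω * ω) = ω := by linear_combination (ω * ω - ω) * hω
  rw [A0_eq]
  ext i j
  fin_cases i <;> fin_cases j <;> simp [P0, Matrix.mul_apply, Fin.sum_univ_three, hω3]

theorem P0_C0 : (P0 : Matrix (Fin 3) (Fin 3) F) * C0 = C0 * C0 * P0 := by
  ext i j
  fin_cases i <;> fin_cases j <;> simp [P0, C0, Matrix.mul_apply, Fin.sum_univ_three]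

theorem P0_P0 : (P0 : Matrix (Fin 3) (Fin 3) F) * P0 = 1 := by
  ext i j
  fin_cases i <;> fin_cases j <;> simp [P0, Matrix.mul_apply, Fin.sum_univ_three]

theorem P0_det : (P0 : Matrix (Fin 3) (Fin 3) F).det = 1 := by
  rw [Matrix.det_fin_three]
  simp [P0]

theorem T0_A0 (ω : F) : T0 ω * A0 ω = A0 ω * T0 ω := by
  rw [T0, A0, Matrix.diagonal_mul_diagonal, Matrix.diagonal_mul_diagonal]
  simp only [mul_comm]

theorem T0_C0 {ω : F} (hω : ω * ω + ω + 1 = 0) : T0 ω * C0 = (ω * ω) • (A0 ω * C0) * T0 ω := by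
  have hω3 : ω * (ω * ω) = 1 := by linear_combination (ω - 1) * hω
  have hω4 : ω * ω * ω = 1 := by linear_combination (ω - 1) * hω
  have hω5 : ω * ω * (ω * ω) = ω := by linear_combination (ω * ω - ω) * hω
  rw [T0_eq, A0_eq]
  ext i j
  fin_cases i <;> fin_cases j <;> simp [C0, Matrix.mul_apply, Fin.sum_univ_three, hω3, hω4, hω5]

theorem perm_P0 : (Equiv.swap (1 : Fin 3) 2).permMatrix F = -P0 := by
  ext i j
  fin_cases i <;> fin_cases j <;> simp [P0, Equiv.Perm.permMatrix, PEquiv.toMatrix, Equiv.swap_apply_def]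

section

variable {R : Subgroup (GL (Fin 3) F)} {Q a b : GL (Fin 3) F} {ω : F}

theorem Heis.conj_mul (H : Heis R Q a b ω) : ((Q⁻¹ * a * Q : GL (Fin 3) F) : Matrix (Fin 3) (Fin 3) F) = A0 ω ∧
    ((Q⁻¹ * b * Q : GL (Fin 3) F) : Matrix (Fin 3) (Fin 3) F) = C0 := ⟨conj_coe H.aQ, conj_coe H.bQ⟩

/-- the involution in `N(R)` -/
theorem Heis.P_mem [Finite R] (H : Heis R Q a b ω) {P : GL (Fin 3) F} (hP : (P : Matrix (Fin 3) (Fin 3) F) = P0) :
    Q * P * Q⁻¹ ∈ subgroupNormalizer R := by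
  obtain ⟨hA, hB⟩ := H.conj_mul
  have e1 : P * (Q⁻¹ * a * Q) = (Q⁻¹ * a * Q) * (Q⁻¹ * a * Q) * P := by
    apply m_ext
    rw [Units.val_mul P, Units.val_mul _ P, Units.val_mul (Q⁻¹ * a * Q), hA, hP, P0_A0 H.hω]
  have e2 : P * (Q⁻¹ * b * Q) = (Q⁻¹ * b * Q) * (Q⁻¹ * b * Q) * P := by
    apply m_ext
    rw [Units.val_mul P, Units.val_mul _ P, Units.val_mul (Q⁻¹ * b * Q), hB, hP, P0_C0]
  apply H.mem_normalizer (a' := a * a) (b' := b * b) (R.mul_mem H.ha H.ha) (R.mul_mem H.hb H.hb)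
  · calc Q * P * Q⁻¹ * a = Q * (P * (Q⁻¹ * a * Q)) * Q⁻¹ := by group
      _ = Q * ((Q⁻¹ * a * Q) * (Q⁻¹ * a * Q) * P) * Q⁻¹ := by rw [e1]
      _ = a * a * (Q * P * Q⁻¹) := by group
  · calc Q * P * Q⁻¹ * b = Q * (P * (Q⁻¹ * b * Q)) * Q⁻¹ := by group
      _ = Q * ((Q⁻¹ * b * Q) * (Q⁻¹ * b * Q) * P) * Q⁻¹ := by rw [e2]
      _ = b * b * (Q * P * Q⁻¹) := by group

/-- the diagonal element in `N(R)` -/
theorem Heis.T_mem [Finite R] (H : Heis R Q a b ω) {T : GL (Fin 3) F} (hT : (T : Matrix (Fin 3) (Fin 3) F) = T0 ω) :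
    Q * T * Q⁻¹ ∈ subgroupNormalizer R := by
  obtain ⟨hA, hB⟩ := H.conj_mul
  obtain ⟨z, hz, hzm⟩ := H.comm
  have hzs : z ∈ scalars (Fin 3) F := (mem_scalars_iff' _).2 ⟨ω, hzm⟩
  have e1 : T * (Q⁻¹ * a * Q) = (Q⁻¹ * a * Q) * T := by
    apply m_ext
    rw [Units.val_mul T, Units.val_mul _ T, hA, hT, T0_A0]
  have e2 : T * (Q⁻¹ * b * Q) = z * z * ((Q⁻¹ * a * Q) * (Q⁻¹ * b * Q)) * T := by
    apply m_ext
    rw [Units.val_mul T, Units.val_mul _ T, Units.val_mul (z * z), Units.val_mul z z, Units.val_mul (Q⁻¹ * a * Q), hA,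
      hB, hT, T0_C0 H.hω, hzm]
    simp only [Matrix.smul_mul, Matrix.one_mul, smul_smul]
  apply H.mem_normalizer (a' := a) (b' := z * z * (a * b)) H.ha
    (R.mul_mem (R.mul_mem hz hz) (R.mul_mem H.ha H.hb))
  · calc Q * T * Q⁻¹ * a = Q * (T * (Q⁻¹ * a * Q)) * Q⁻¹ := by group
      _ = Q * ((Q⁻¹ * a * Q) * T) * Q⁻¹ := by rw [e1]
      _ = a * (Q * T * Q⁻¹) := by group
  · have hc : Q * (z * z) = z * z * Q := (comm_of_scalar ((scalars (Fin 3) F).mul_mem hzs hzs) Q).symm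
    calc Q * T * Q⁻¹ * b = Q * (T * (Q⁻¹ * b * Q)) * Q⁻¹ := by group
      _ = Q * (z * z * ((Q⁻¹ * a * Q) * (Q⁻¹ * b * Q)) * T) * Q⁻¹ := by rw [e2]
      _ = (Q * (z * z)) * Q⁻¹ * (a * b) * (Q * T * Q⁻¹) := by group
      _ = z * z * (a * b) * (Q * T * Q⁻¹) := by rw [hc]; group

end

theorem det3_scalar {z : GL (Fin 3) F} {c : F} (h : (z : Matrix (Fin 3) (Fin 3) F) = c • (1 : Matrix (Fin 3) (Fin 3) F)) :
    (z : Matrix (Fin 3) (Fin 3) F).det = c ^ 3 := by
  rw [h, Matrix.det_smul, Matrix.det_one, Fintype.card_fin, mul_one]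

/-- passing to a scalar multiple -/
theorem lhs_scale {n : ℕ} {G R : Subgroup (GL (Fin n) F)} {x z : GL (Fin n) F} (hz : z ∈ scalars (Fin n) F)
    (h : ∃ g ∈ G, g⁻¹ * (z * x) * g ∈ subgroupNormalizer R) : ∃ g ∈ G, g⁻¹ * x * g ∈ subgroupNormalizer R := by
  obtain ⟨g, hg, hgN⟩ := h
  refine ⟨g, hg, ?_⟩
  have hzi := (scalars (Fin n) F).inv_mem hz
  have h1 : g⁻¹ * x * g = z⁻¹ * (g⁻¹ * (z * x) * g) := by
    have h3 : z⁻¹ * g⁻¹ = g⁻¹ * z⁻¹ := comm_of_scalar hzi _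
    calc g⁻¹ * x * g = g⁻¹ * z⁻¹ * (z * x) * g := by group
      _ = z⁻¹ * g⁻¹ * (z * x) * g := by rw [h3]
      _ = _ := by group
  rw [h1]
  exact (subgroupNormalizer R).mul_mem (scalars_le_normalizer R hzi) hgN

/-- elements of order two modulo scalars -/
theorem heis_two {G0 : Subgroup (GL (Fin 3) F)} {U : F → Prop} (h2 : (2 : F) ≠ 0) (hA : Amb G0 U) (hU : U (-1))
    {R : Subgroup (GL (Fin 3) F)} [Finite R] {Q a b : GL (Fin 3) F} {ω : F} (H : Heis R Q a b ω) (hQ : Q ∈ G0)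
    (hdiag : ∀ y ∈ G0, y * y = 1 → ∃ B ∈ G0, ∃ s : Fin 3 → F, (∀ i, s i = 1 ∨ s i = -1) ∧
      (y : Matrix (Fin 3) (Fin 3) F) * (B : Matrix (Fin 3) (Fin 3) F) = B * Matrix.diagonal s) :
    Lhs (G0 ⊓ specialLinear (Fin 3) F) R 2 := by
  have h11 : (1 : F) ≠ -1 := fun h => h2 (by linear_combination h)
  obtain ⟨P1, hP1, hP1m⟩ := hA.perm (Equiv.swap (1 : Fin 3) 2)
  obtain ⟨m, hm, hmm⟩ := hA.diag (fun _ => -1) (fun _ => hU)
  rw [← Matrix.smul_one_eq_diagonal, neg_smul, one_smul] at hmm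
  obtain ⟨P, hPd⟩ : ∃ P, P = m * P1 := ⟨_, rfl⟩
  have hP : (P : Matrix (Fin 3) (Fin 3) F) = P0 := by
    rw [hPd, Units.val_mul, hmm, hP1m, perm_P0, neg_mul, one_mul, neg_neg]
  have hPG : P ∈ G0 := by rw [hPd]; exact G0.mul_mem hm hP1
  have hPP : P * P = 1 := m_ext (by rw [Units.val_mul, hP, P0_P0, Units.val_one])
  have key : ∀ y ∈ G0, y * y = 1 → (y : Matrix (Fin 3) (Fin 3) F).det = 1 → y ≠ 1 → ∃ B ∈ G0, ∃ s : Fin 3 → F,
      (∀ i, s i = 1 ∨ s i = -1) ∧ (y : Matrix (Fin 3) (Fin 3) F) * (B : Matrix (Fin 3) (Fin 3) F) = B * Matrix.diagonal s ∧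
      cnt s = 2 := by
    intro y hy hyy hdet hy1
    obtain ⟨B, hB, s, hs, hys⟩ := hdiag y hy hyy
    refine ⟨B, hB, s, hs, hys, ?_⟩
    rw [det_of_diag hys, sign_prod hs] at hdet
    have h0 : cnt s ≠ 0 := by
      intro h
      apply hy1
      apply m_ext
      rw [eq_of_diag hys (cnt_eq_zero hs h), one_smul, Units.val_one]
    have h3 := cnt_le s
    interval_cases h8 : cnt s
    · exact absurd rfl h0
    · exact absurd (by linear_combination -hdet : (1 : F) = -1) h11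
    · rfl
    · exact absurd (by linear_combination -hdet : (1 : F) = -1) h11
  have hy1G : Q * P * Q⁻¹ ∈ G0 := G0.mul_mem (G0.mul_mem hQ hPG) (G0.inv_mem hQ)
  have hQQ : (Q : Matrix (Fin 3) (Fin 3) F).det * ((Q⁻¹ : GL (Fin 3) F) : Matrix (Fin 3) (Fin 3) F).det = 1 := by
    rw [← Matrix.det_mul, ← Units.val_mul, mul_inv_cancel, Units.val_one, Matrix.det_one]
  obtain ⟨C, hC, t, ht, hyt, hct⟩ := key (Q * P * Q⁻¹) hy1G
    (by
      calc Q * P * Q⁻¹ * (Q * P * Q⁻¹) = Q * (P * P) * Q⁻¹ := by group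
        _ = 1 := by rw [hPP]; group)
    (by
      rw [Units.val_mul, Units.val_mul, Matrix.det_mul, Matrix.det_mul, hP, P0_det, mul_one, hQQ])
    (by
      intro h
      have h1 : P = 1 := by
        calc P = Q⁻¹ * (Q * P * Q⁻¹) * Q := by group
          _ = 1 := by rw [h]; group
      have h3 := congrArg (fun g : GL (Fin 3) F => (g : Matrix (Fin 3) (Fin 3) F) 0 0) h1
      simp [hP, P0] at h3
      exact h11 h3.symm)
  intro x hx hxr hxs
  have hxG : x ∈ G0 := hx.1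
  have hxdet : (x : Matrix (Fin 3) (Fin 3) F).det = 1 := (mem_sl x).1 hx.2
  obtain ⟨c, hc⟩ := (mem_scalars_iff' _).1 hxr
  have hc3 : c ^ 3 = 1 := by
    rw [← det3_scalar hc, Units.val_pow_eq_pow_val, Matrix.det_pow, hxdet, one_pow]
  have hx23 : (x ^ 2) ^ 3 = 1 := by
    apply m_ext
    rw [Units.val_pow_eq_pow_val, hc, smul_pow, hc3, one_smul, one_pow, Units.val_one]
  apply lhs_scale (z := x ^ 2) hxr
  have hne : x ^ 2 * x ≠ 1 := by
    intro h
    apply hxs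
    have h1 : x = (x ^ 2)⁻¹ := (inv_eq_of_mul_eq_one_right h).symm
    rw [h1]
    exact (scalars (Fin 3) F).inv_mem hxr
  obtain ⟨B, hB, s, hs, hxB, hcs⟩ := key (x ^ 2 * x) (G0.mul_mem (G0.pow_mem hxG 2) hxG)
    (by rw [← hx23]; group)
    (by
      rw [Units.val_mul, Units.val_pow_eq_pow_val, Matrix.det_mul, Matrix.det_pow, hxdet, one_pow, one_mul]) hne
  obtain ⟨σ, hσ⟩ := sign_perm h2 hs ht (hcs.trans hct.symm)
  obtain ⟨g, hg, hgy⟩ := hA.conj 0 hB hC hxB hyt σ hσ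
  exact ⟨g, hg, by rw [hgy]; exact H.P_mem hP⟩

/-- elements of order three modulo scalars, when all cube roots of unity are cubes in `U` -/
theorem heis_three {G0 : Subgroup (GL (Fin 3) F)} {U : F → Prop} (h3 : (3 : F) ≠ 0) (hA : Amb G0 U)
    {R : Subgroup (GL (Fin 3) F)} [Finite R] {Q a b : GL (Fin 3) F} {ω : F} (H : Heis R Q a b ω) (hQ : Q ∈ G0)
    (hU : ∀ c, c ^ 3 = 1 → U c)
    (hdiag : ∀ y ∈ G0, y ^ 3 = 1 → ∃ B ∈ G0, ∃ s : Fin 3 → F, (∀ i, s i ^ 3 = 1) ∧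
      (y : Matrix (Fin 3) (Fin 3) F) * (B : Matrix (Fin 3) (Fin 3) F) = B * Matrix.diagonal s)
    (hroot : ∀ c : F, c ^ 3 = 1 → ∃ ζ, U ζ ∧ ζ ^ 3 = c) :
    Lhs (G0 ⊓ specialLinear (Fin 3) F) R 3 := by
  have hω := H.hω
  obtain ⟨hω1, hω2, hω12, hω0⟩ := omega_ne h3 hω
  have hω3 : ω * ω * ω = 1 := by linear_combination (ω - 1) * hω
  obtain ⟨T, hTG, hT⟩ := hA.diag ![1, 1, ω] (fun i => by
    fin_cases i
    · exact hA.one
    · exact hA.one
    · exact hU ω (by linear_combination hω3))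
  have hTN : Q * T * Q⁻¹ ∈ subgroupNormalizer R := H.T_mem hT
  -- targets
  have target : ∀ (c : F) (k : ℕ), c ^ 3 = 1 → ∃ y ∈ subgroupNormalizer R,
      (y : Matrix (Fin 3) (Fin 3) F) * (Q : Matrix (Fin 3) (Fin 3) F) = Q * Matrix.diagonal ![c, c, c * ω ^ k] := by
    intro c k hc
    obtain ⟨m, hm, hmm⟩ := hA.diag (fun _ => c) (fun _ => hU c hc)
    rw [← Matrix.smul_one_eq_diagonal] at hmm
    have hms : m ∈ scalars (Fin 3) F := (mem_scalars_iff' _).2 ⟨c, hmm⟩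
    refine ⟨m * (Q * T * Q⁻¹) ^ k, (subgroupNormalizer R).mul_mem (scalars_le_normalizer R hms)
      ((subgroupNormalizer R).pow_mem hTN k), ?_⟩
    have e1 : (Q * T * Q⁻¹) ^ k = Q * T ^ k * Q⁻¹ := by
      have := conj_pow (i := k) (a := Q) (b := T)
      exact this
    have e2 : m * (Q * T * Q⁻¹) ^ k * Q = Q * (m * T ^ k) := by
      rw [e1]
      calc m * (Q * T ^ k * Q⁻¹) * Q = (m * Q) * T ^ k := by group
        _ = Q * (m * T ^ k) := by rw [comm_of_scalar hms, mul_assoc]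
    rw [← Units.val_mul, e2, Units.val_mul, Units.val_mul, Units.val_pow_eq_pow_val, hT, hmm, Matrix.diagonal_pow,
      Matrix.smul_mul, Matrix.one_mul, ← Matrix.diagonal_smul]
    congr 2
    ext i
    fin_cases i <;> simp
  have final : ∀ y ∈ G0, y ^ 3 = 1 → y ∉ scalars (Fin 3) F → ∃ g ∈ G0 ⊓ specialLinear (Fin 3) F,
      g⁻¹ * y * g ∈ subgroupNormalizer R := by
    intro y hy hy3 hys
    obtain ⟨B, hB, s, hs, hyB⟩ := hdiag y hy hy3
    have hconst : ¬ ∀ i, s i = s 0 := by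
      intro h
      exact hys ((mem_scalars_iff' _).2 ⟨s 0, eq_of_diag hyB h⟩)
    have hs0 : ∀ i, s i ≠ 0 := by
      intro i h
      have := hs i
      rw [h, zero_pow (by norm_num)] at this
      exact zero_ne_one this
    -- `(c, c, d)` up to a permutation
    have two : ∀ (σ : Equiv.Perm (Fin 3)) (c d : F), c ^ 3 = 1 → d ^ 3 = 1 →
        (∀ i, (![c, c, d] : Fin 3 → F) (σ i) = s i) → ∃ g ∈ G0 ⊓ specialLinear (Fin 3) F,
        g⁻¹ * y * g ∈ subgroupNormalizer R := by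
      intro σ c d hc hd hσ
      have hc0 : c ≠ 0 := by
        rintro rfl
        rw [zero_pow (by norm_num)] at hc
        exact zero_ne_one hc
      obtain ⟨k, hk⟩ : ∃ k : ℕ, d = c * ω ^ k := by
        have h1 : (d / c) ^ 3 = 1 := by rw [div_pow, hc, hd, div_one]
        rcases cube_cases hω h1 with h | h | h
        · exact ⟨0, by rw [pow_zero, mul_one]; exact (div_eq_one_iff_eq hc0).1 h⟩
        · exact ⟨1, by rw [pow_one, ← h]; field_simp⟩
        · exact ⟨2, by rw [pow_two, ← h]; field_simp⟩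
      obtain ⟨y', hy'N, hy'⟩ := target c k hc
      rw [← hk] at hy'
      obtain ⟨g, hg, hgy⟩ := hA.conj 0 hB hQ hyB hy' σ hσ
      exact ⟨g, hg, by rw [hgy]; exact hy'N⟩
    by_cases h01 : s 0 = s 1
    · apply two 1 (s 0) (s 2) (hs 0) (hs 2)
      intro i
      fin_cases i
      · rfl
      · exact h01
      · rfl
    by_cases h02 : s 0 = s 2
    · apply two (Equiv.swap 1 2) (s 0) (s 1) (hs 0) (hs 1)
      intro i
      fin_cases i
      · rfl
      · rfl
      · exact h02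
    by_cases h12 : s 1 = s 2
    · apply two (Equiv.swap 0 2) (s 1) (s 0) (hs 1) (hs 0)
      intro i
      fin_cases i
      · rfl
      · rfl
      · exact h12
    · -- distinct eigenvalues
      have hex : ∀ i, ∃ k, (![1, ω, ω * ω] : Fin 3 → F) k = s i := by
        intro i
        rcases cube_cases hω (hs i) with h | h | h
        · exact ⟨0, h.symm⟩
        · exact ⟨1, h.symm⟩
        · exact ⟨2, h.symm⟩
      choose f hf using hex
      have hinj : Function.Injective f := by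
        intro i k hik
        have h1 : s i = s k := by rw [← hf, ← hf, hik]
        fin_cases i <;> fin_cases k
        · rfl
        · exact absurd h1 h01
        · exact absurd h1 h02
        · exact absurd h1.symm h01
        · rfl
        · exact absurd h1 h12
        · exact absurd h1.symm h02
        · exact absurd h1.symm h12
        · rfl
      obtain ⟨g, hg, hgy⟩ := hA.conj 0 hB hQ hyB H.aQ (Equiv.ofBijective f (Finite.injective_iff_bijective.1 hinj)) hf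
      exact ⟨g, hg, by rw [hgy]; exact le_normalizer R H.ha⟩
  intro x hx hxr hxs
  have hxG : x ∈ G0 := hx.1
  have hxdet : (x : Matrix (Fin 3) (Fin 3) F).det = 1 := (mem_sl x).1 hx.2
  obtain ⟨c, hc⟩ := (mem_scalars_iff' _).1 hxr
  have hc3 : c ^ 3 = 1 := by
    rw [← det3_scalar hc, Units.val_pow_eq_pow_val, Matrix.det_pow, hxdet, one_pow]
  obtain ⟨ζ, hζU, hζ⟩ := hroot c hc3
  obtain ⟨m, hm, hmm⟩ := hA.diag (fun _ => ζ) (fun _ => hζU)
  rw [← Matrix.smul_one_eq_diagonal] at hmm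
  have hms : m ∈ scalars (Fin 3) F := (mem_scalars_iff' _).2 ⟨ζ, hmm⟩
  have hmi := (scalars (Fin 3) F).inv_mem hms
  apply lhs_scale (z := m⁻¹) hmi
  apply final _ (G0.mul_mem (G0.inv_mem hm) hxG)
  · have hcm : Commute m⁻¹ x := comm_of_scalar hmi x
    have h1 : m ^ 3 = x ^ 3 := by
      apply m_ext
      rw [Units.val_pow_eq_pow_val, hmm, smul_pow, hζ, one_pow, hc]
    rw [hcm.mul_pow, ← h1, inv_pow, inv_mul_cancel]
  · intro h
    apply hxs
    have h1 : x = m * (m⁻¹ * x) := by group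
    rw [h1]
    exact (scalars (Fin 3) F).mul_mem hms h

/-- no element of prime order at least five -/
theorem heis_five {G0 : Subgroup (GL (Fin 3) F)} [Finite F] (h3 : (3 : F) ≠ 0) {R : Subgroup (GL (Fin 3) F)}
    (hR : Nat.card R = 27) {Q a b : GL (Fin 3) F} {ω : F} (H : Heis R Q a b ω) {r : ℕ} [Fact r.Prime] (hr2 : r ≠ 2)
    (hr3 : r ≠ 3) (hΩ : r ∣ (subgroupNormalizer R).relIndex (G0 ⊓ specialLinear (Fin 3) F)) :
    ¬ Lhs (G0 ⊓ specialLinear (Fin 3) F) R r := by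
  intro L
  have hr : r.Prime := Fact.out
  have hfinR : Finite R := Nat.finite_of_card_ne_zero (by rw [hR]; norm_num)
  have hfinG : Finite (GL (Fin 3) F) := inferInstance
  have hrG : r ∣ Nat.card (G0 ⊓ specialLinear (Fin 3) F : Subgroup (GL (Fin 3) F)) :=
    hΩ.trans (Subgroup.relIndex_dvd_card _ _)
  obtain ⟨x0, hx0⟩ := exists_prime_orderOf_dvd_card' (G := (G0 ⊓ specialLinear (Fin 3) F : Subgroup (GL (Fin 3) F))) r hrG
  have hx0r : (x0 : GL (Fin 3) F) ^ r = 1 := by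
    have : x0 ^ r = 1 := orderOf_dvd_iff_pow_eq_one.1 (by rw [hx0])
    exact congrArg Subtype.val this
  have hx01 : (x0 : GL (Fin 3) F) ≠ 1 := by
    intro h
    have h1 : x0 = 1 := Subtype.ext h
    rw [h1, orderOf_one] at hx0
    exact hr.one_lt.ne hx0
  have hxs : (x0 : GL (Fin 3) F) ∉ scalars (Fin 3) F := by
    intro hs
    obtain ⟨c, hc⟩ := (mem_scalars_iff' _).1 hs
    have h1 := det3_scalar hc
    rw [(mem_sl _).1 x0.2.2] at h1
    have h4 : (x0 : GL (Fin 3) F) ^ 3 = 1 := by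
      apply m_ext
      rw [Units.val_pow_eq_pow_val, hc, smul_pow, ← h1, one_smul, one_pow, Units.val_one]
    exact hx01 (pow_eq_one_of_coprime h4 hx0r ((Nat.coprime_primes Nat.prime_three hr).2 (Ne.symm hr3)))
  obtain ⟨g, hg, hgN⟩ := L x0 x0.2 (by rw [hx0r]; exact (scalars (Fin 3) F).one_mem) hxs
  obtain ⟨y, hy⟩ : ∃ y, y = g⁻¹ * x0 * g := ⟨_, rfl⟩
  have hyr : y ^ r = 1 := by
    have := conj_pow (i := r) (a := g⁻¹) (b := (x0 : GL (Fin 3) F))
    rw [inv_inv] at this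
    rw [hy, this, hx0r]; simp
  have hys : y ∉ scalars (Fin 3) F := by
    intro h
    apply hxs
    have h1 : (x0 : GL (Fin 3) F) = g * y * g⁻¹ := by rw [hy]; group
    rw [h1, ← comm_of_scalar h, mul_inv_cancel_right]
    exact h
  rw [← hy] at hgN
  have hmod := card_modEq_CR (R := R) (y := y) (r := r) (fun g hg => mem_normalizer hgN hg)
    (fun g _ => by rw [hyr, one_mul, mul_one])
  rw [hR] at hmod
  have hdvd : Nat.card (CR R y) ∣ 27 := by
    rw [← hR]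
    exact Subgroup.card_dvd_of_le CR_le
  have h27 : Nat.card (CR R y) ≠ 27 := by
    intro h
    have heq : CR R y = R := by
      apply Subgroup.eq_of_le_of_card_ge CR_le
      rw [hR, h]
    apply hys
    have ha := H.ha
    have hb := H.hb
    rw [← heq, mem_CR] at ha hb
    exact H.scalar_of_comm h3 ha.2.symm hb.2.symm
  have h1 : Nat.card (CR R y) ≠ 1 := by
    intro h
    obtain ⟨z, hz, hzm⟩ := H.comm
    have hzs : z ∈ scalars (Fin 3) F := (mem_scalars_iff' _).2 ⟨ω, hzm⟩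
    have hzC : z ∈ CR R y := mem_CR.2 ⟨hz, comm_of_scalar hzs y⟩
    have hsub := (Nat.card_eq_one_iff_unique.1 h).1
    have h2 : (⟨z, hzC⟩ : CR R y) = 1 := Subsingleton.elim _ _
    have h4 : z = 1 := congrArg Subtype.val h2
    have h5 := congrArg (fun g : GL (Fin 3) F => (g : Matrix (Fin 3) (Fin 3) F) 0 0) h4
    simp only [hzm, Matrix.smul_apply, Units.val_one, Matrix.one_apply_eq, smul_eq_mul, mul_one] at h5
    exact (omega_ne h3 H.hω).1 h5
  have hr5 : 5 ≤ r := by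
    have := hr.two_le
    have h4 : r ≠ 4 := by rintro rfl; norm_num at hr
    omega
  have key : ∀ m : ℕ, m = 24 ∨ m = 18 → ¬ r ∣ m := by
    intro m hm hd
    have h6 : r ∣ 2 ^ 3 * 3 ^ 2 := by
      rcases hm with h | h
      · rw [h] at hd
        exact hd.trans (by norm_num)
      · rw [h] at hd
        exact hd.trans (by norm_num)
    rcases (Nat.Prime.dvd_mul hr).1 h6 with h | h
    · exact hr2 ((Nat.prime_dvd_prime_iff_eq hr Nat.prime_two).1 (hr.dvd_of_dvd_pow h))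
    · exact hr3 ((Nat.prime_dvd_prime_iff_eq hr Nat.prime_three).1 (hr.dvd_of_dvd_pow h))
  rcases dvd27 hdvd with h | h | h | h
  · exact h1 h
  · rw [h] at hmod
    exact key 24 (Or.inl rfl) ((Nat.modEq_iff_dvd' (by norm_num)).1 hmod.symm)
  · rw [h] at hmod
    exact key 18 (Or.inr rfl) ((Nat.modEq_iff_dvd' (by norm_num)).1 hmod.symm)
  · exact h27 h

end Cfsg.Agent.H960
end
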