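import Cfsg.Agent.H960.Fix
import Cfsg.Agent.H960.Cases
set_option linter.all false

-- part: H960/Syl
section
/-!
Elements of prime order `r` acting without fixed vectors (H960): a commuting pair generates a cyclic group, so
all subgroups of order `r` are conjugate.
-/

set_option autoImplicit false
open Cfsg Cfsg.Geo Matrix
open scoped MatrixGroups

namespace Cfsg.Agent.H960

/-- If commuting elements of order `r` are powers of each other, then all elements of order `r` are conjugate up to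
powers. -/
theorem conj_of_prime_order {G : Type*} [Group G] [Finite G] {r : ℕ} [Fact r.Prime]
    (hG : ∀ a b : G, a ^ r = 1 → a ≠ 1 → b ^ r = 1 → a * b = b * a → ∃ k : ℕ, b = a ^ k) {x y : G}
    (hx : x ^ r = 1) (hy : y ^ r = 1) (hy1 : y ≠ 1) : ∃ g : G, ∃ k : ℕ, g * x * g⁻¹ = y ^ k := by
  have hp : ∀ z : G, z ^ r = 1 → IsPGroup r (Subgroup.zpowers z) := by
    intro z hz w
    obtain ⟨k, hk⟩ := Subgroup.mem_zpowers_iff.1 w.2
    refine ⟨1, ?_⟩
    apply Subtype.ext
    rw [Subgroup.coe_pow, ← hk, pow_one, ← zpow_natCast, zpow_comm, zpow_natCast, hz, _root_.one_zpow]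
    rfl
  obtain ⟨P, hP⟩ := (hp x hx).exists_le_sylow
  obtain ⟨Q, hQ⟩ := (hp y hy).exists_le_sylow
  obtain ⟨g, hg⟩ := MulAction.exists_smul_eq G P Q
  have hxP : x ∈ (P : Subgroup G) := hP (Subgroup.mem_zpowers x)
  have hyQ : y ∈ (Q : Subgroup G) := hQ (Subgroup.mem_zpowers y)
  have hgx : g * x * g⁻¹ ∈ (Q : Subgroup G) := by
    rw [← hg, Sylow.coe_subgroup_smul, Subgroup.mem_pointwise_smul_iff_inv_smul_mem]
    rw [← map_inv, MulAut.smul_def, MulAut.conj_apply]
    have : g⁻¹ * (g * x * g⁻¹) * g⁻¹⁻¹ = x := by group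
    rw [this]; exact hxP
  -- a central element of order `r` in `Q`
  have hQne : Nontrivial Q := ⟨⟨⟨y, hyQ⟩, 1, fun h => hy1 (congrArg Subtype.val h)⟩⟩
  have hcn : Nontrivial (Subgroup.center Q) := Q.2.center_nontrivial
  have hcp : IsPGroup r (Subgroup.center Q) := Q.2.to_subgroup _
  have hdvd : r ∣ Nat.card (Subgroup.center Q) := by
    obtain ⟨n, hn0, hn⟩ := (IsPGroup.nontrivial_iff_card hcp).1 hcn
    rw [hn]
    exact dvd_pow_self r (by omega)
  obtain ⟨z, hz⟩ := exists_prime_orderOf_dvd_card' (G := Subgroup.center Q) r hdvd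
  set z' : G := ((z : Q) : G) with hz'
  have hzr : z' ^ r = 1 := by
    have h1 : z ^ r = 1 := orderOf_dvd_iff_pow_eq_one.1 (by rw [hz])
    have h2 := congrArg (fun w : Subgroup.center Q => ((w : Q) : G)) h1
    simpa using h2
  have hz1 : z' ≠ 1 := by
    intro h
    have h1 : z = 1 := Subtype.ext (Subtype.ext h)
    rw [h1, orderOf_one] at hz
    exact (Fact.out : r.Prime).one_lt.ne hz
  have hcom : ∀ w ∈ (Q : Subgroup G), w * z' = z' * w := by
    intro w hw
    have := Subgroup.mem_center_iff.1 z.2 ⟨w, hw⟩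
    exact congrArg Subtype.val this
  obtain ⟨k, hk⟩ := hG z' (g * x * g⁻¹) hzr hz1 (by
    have : (g * x * g⁻¹) ^ r = g * x ^ r * g⁻¹ := by rw [conj_pow]
    rw [this, hx]; simp) (hcom _ hgx).symm
  obtain ⟨m, hm⟩ := hG y z' hy hy1 hzr (hcom _ hyQ)
  exact ⟨g, m * k, by rw [hk, hm, pow_mul]⟩

/-- The counting identity: `Σ_k N(a^k b) = r + Σ_{j ≥ 1} N(a^j) b^j`. -/
theorem natCast_eq_zero_of_norms {A : Type*} [Ring A] {a b : A} (hab : Commute a b) {r : ℕ} (hr : 0 < r)
    (h1 : ∀ j ∈ Finset.range r, j ≠ 0 → ∑ k ∈ Finset.range r, (a ^ j) ^ k = 0)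
    (h2 : ∀ k ∈ Finset.range r, ∑ j ∈ Finset.range r, (a ^ k * b) ^ j = 0) : (r : A) = 0 := by
  have h3 : ∑ k ∈ Finset.range r, ∑ j ∈ Finset.range r, (a ^ k * b) ^ j = 0 := Finset.sum_eq_zero h2
  have h4 : ∀ k j : ℕ, (a ^ k * b) ^ j = (a ^ j) ^ k * b ^ j := by
    intro k j
    rw [(hab.pow_left k).mul_pow, ← pow_mul, ← pow_mul, mul_comm]
  simp only [h4] at h3
  rw [Finset.sum_comm] at h3
  rw [Finset.sum_eq_single 0] at h3
  · simpa using h3
  · intro j hj hj0
    rw [← Finset.sum_mul, h1 j hj hj0, zero_mul]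
  · intro h
    exact absurd (Finset.mem_range.2 hr) h

section Matrices

variable {ι : Type} [Fintype ι] [DecidableEq ι] {F : Type*} [Field F]

/-- If the elements of order `r` of `G` satisfy `1 + x + ... + x^(r-1) = 0`, commuting ones are powers of each
other. -/
theorem power_of_norms [Nonempty ι] {G : Subgroup (GL ι F)} {r : ℕ} [Fact r.Prime] (hrF : (r : F) ≠ 0)
    (hN : ∀ x ∈ G, x ^ r = 1 → x ≠ 1 → ∑ k ∈ Finset.range r, (x : Matrix ι ι F) ^ k = 0) (a b : G)
    (ha : a ^ r = 1) (ha1 : a ≠ 1) (hb : b ^ r = 1) (hab : a * b = b * a) : ∃ k : ℕ, b = a ^ k := by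
  have hrp : r.Prime := Fact.out
  by_contra hcon
  push Not at hcon
  have hcom : Commute ((a : GL ι F) : Matrix ι ι F) ((b : GL ι F) : Matrix ι ι F) := by
    have := congrArg (fun w : G => ((w : GL ι F) : Matrix ι ι F)) hab
    change ((a : GL ι F) : Matrix ι ι F) * ((b : GL ι F) : Matrix ι ι F) =
      ((b : GL ι F) : Matrix ι ι F) * ((a : GL ι F) : Matrix ι ι F)
    simpa using this
  have h0 := natCast_eq_zero_of_norms hcom hrp.pos
    (by
      intro j hj hj0
      have h1 : (a ^ j) ≠ 1 := by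
        intro h
        have h2 : orderOf a ∣ j := orderOf_dvd_of_pow_eq_one h
        rw [orderOf_eq_prime ha ha1] at h2
        have := Nat.le_of_dvd (Nat.pos_of_ne_zero hj0) h2
        have := Finset.mem_range.1 hj
        omega
      have h2 := hN ((a ^ j : G) : GL ι F) (a ^ j).2 (by
        rw [← Subgroup.coe_pow, ← pow_mul, mul_comm, pow_mul, ha, one_pow]; rfl)
        (fun h => h1 (Subtype.ext h))
      simpa using h2)
    (by
      intro k hk
      have h1 : a ^ k * b ≠ 1 := by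
        intro h
        apply hcon ((r - 1) * k)
        have h3 : b = (a ^ k)⁻¹ := (inv_eq_of_mul_eq_one_right h).symm
        rw [h3]
        symm
        apply eq_inv_of_mul_eq_one_left
        rw [← pow_add]
        have : (r - 1) * k + k = r * k := by
          have := hrp.pos
          calc (r - 1) * k + k = ((r - 1) + 1) * k := by ring
            _ = r * k := by rw [Nat.sub_add_cancel this]
        rw [this, pow_mul, ha, one_pow]
      have h2 := hN ((a ^ k * b : G) : GL ι F) (a ^ k * b).2 (by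
        rw [← Subgroup.coe_pow, (show Commute (a ^ k) b from (show Commute a b from hab).pow_left k).mul_pow,
          ← pow_mul, mul_comm k r, pow_mul, ha, one_pow, one_mul, hb]; rfl)
        (fun h => h1 (Subtype.ext h))
      simpa using h2)
  obtain ⟨i⟩ := (inferInstance : Nonempty ι)
  have h1 := congrFun (congrFun h0 i) i
  rw [← Matrix.diagonal_natCast, Matrix.diagonal_apply_eq] at h1
  exact hrF h1

/-- `x^r = 1`: `x` fixes the columns of `1 + x + ... + x^(r-1)`. -/
theorem mul_norm_eq {x : Matrix ι ι F} {r : ℕ} (hx : x ^ r = 1) :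
    x * ∑ k ∈ Finset.range r, x ^ k = ∑ k ∈ Finset.range r, x ^ k := by
  have h := mul_geom_sum x r
  rw [hx, sub_self, sub_mul, one_mul, sub_eq_zero] at h
  exact h

/-- Counting fixed vectors: `|F|^n ≡ |F|^j (mod r)`, `j` the dimension of the fixed space. -/
theorem fixed_space_modEq [Fintype F] {x : GL ι F} {r : ℕ} [Fact r.Prime] (hx : x ^ r = 1) :
    Fintype.card F ^ Fintype.card ι ≡
      Fintype.card F ^ Module.finrank F (LinearMap.ker (Matrix.toLin' ((x : Matrix ι ι F) - 1))) [MOD r] := by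
  classical
  let f : (ι → F) → (ι → F) := fun v => (x : Matrix ι ι F) *ᵥ v
  have hf : f^[r] = id := by
    funext v
    have : ∀ k : ℕ, f^[k] v = (x : Matrix ι ι F) ^ k *ᵥ v := by
      intro k
      induction k with
      | zero => simp
      | succ k ih => rw [Function.iterate_succ_apply', ih]; change (x : Matrix ι ι F) *ᵥ _ = _
                     rw [Matrix.mulVec_mulVec, ← pow_succ']
    rw [this, ← Units.val_pow_eq_pow_val, hx, Units.val_one, Matrix.one_mulVec]; rfl
  have h := card_modEq_fixed f hf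
  have h1 : Nat.card (ι → F) = Fintype.card F ^ Fintype.card ι := by
    rw [Nat.card_eq_fintype_card, Fintype.card_fun]
  have h2 : Nat.card {v : ι → F // f v = v} =
      Fintype.card F ^ Module.finrank F (LinearMap.ker (Matrix.toLin' ((x : Matrix ι ι F) - 1))) := by
    rw [← Module.card_eq_pow_finrank (K := F)
      (V := LinearMap.ker (Matrix.toLin' ((x : Matrix ι ι F) - 1))), ← Nat.card_eq_fintype_card]
    apply Nat.card_congr
    refine Equiv.subtypeEquivRight (fun v => ?_)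
    rw [LinearMap.mem_ker, Matrix.toLin'_apply, Matrix.sub_mulVec, Matrix.one_mulVec, sub_eq_zero]
  rw [h1, h2] at h
  exact h

/-- If some vector is fixed by `x ≠ 1`, then `|F| ^ (n - j) ≡ 1` for some `0 < j < n`. -/
theorem norm_eq_zero_of_order [Fintype F] {x : GL ι F} {r : ℕ} [Fact r.Prime] (hx : x ^ r = 1) (hx1 : x ≠ 1)
    (hq : Nat.Coprime (Fintype.card F) r)
    (hord : ∀ d, 0 < d → d < Fintype.card ι → ¬ Fintype.card F ^ d ≡ 1 [MOD r]) :
    ∑ k ∈ Finset.range r, (x : Matrix ι ι F) ^ k = 0 := by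
  by_contra hne
  set K := LinearMap.ker (Matrix.toLin' ((x : Matrix ι ι F) - 1)) with hK
  have hxm : (x : Matrix ι ι F) ^ r = 1 := by rw [← Units.val_pow_eq_pow_val, hx, Units.val_one]
  have hmul := mul_norm_eq hxm
  set N := ∑ k ∈ Finset.range r, (x : Matrix ι ι F) ^ k with hN
  have hpos : 0 < Module.finrank F K := by
    rw [Module.finrank_pos_iff_exists_ne_zero]
    have : ∃ v : ι → F, N *ᵥ v ≠ 0 := by
      by_contra hcon
      push Not at hcon
      apply hne
      ext i j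
      have := congrFun (hcon (Pi.single j 1)) i
      simpa using this
    obtain ⟨v, hv⟩ := this
    refine ⟨⟨N *ᵥ v, ?_⟩, fun h => hv (congrArg Subtype.val h)⟩
    rw [hK, LinearMap.mem_ker, Matrix.toLin'_apply, Matrix.sub_mulVec, Matrix.one_mulVec,
      Matrix.mulVec_mulVec, hmul, sub_self]
  have hlt : Module.finrank F K < Fintype.card ι := by
    have h1 : K < ⊤ := by
      rw [lt_top_iff_ne_top]
      intro htop
      apply hx1
      have h2 : Matrix.toLin' ((x : Matrix ι ι F) - 1) = 0 := LinearMap.ker_eq_top.1 htop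
      have h3 : (x : Matrix ι ι F) - 1 = 0 := by
        have := congrArg LinearMap.toMatrix' h2
        simpa using this
      exact Units.ext (sub_eq_zero.1 h3)
    have h2 := Submodule.finrank_lt h1.ne
    simpa using h2
  have h := fixed_space_modEq (r := r) hx
  rw [← hK] at h
  apply hord (Fintype.card ι - Module.finrank F K) (by omega) (by omega)
  have h2 : Fintype.card F ^ Module.finrank F K * Fintype.card F ^ (Fintype.card ι - Module.finrank F K) ≡
      Fintype.card F ^ Module.finrank F K * 1 [MOD r] := by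
    rw [← pow_add, Nat.add_sub_cancel' hlt.le, mul_one]; exact h
  exact Nat.ModEq.cancel_left_of_coprime (by
    rw [Nat.gcd_comm]; exact Nat.Coprime.pow_left _ hq) h2

end Matrices

end Cfsg.Agent.H960
end

-- part: H960/Five
section
/-!
Conjugacy of elements of order `r` into `N(R)` by Sylow's theorem (H960).
-/

set_option autoImplicit false
open Cfsg Cfsg.Geo Matrix
open scoped MatrixGroups

namespace Cfsg.Agent.H960

variable {ι : Type} [Fintype ι] [DecidableEq ι] {F : Type*} [Field F]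

theorem orderOf_two5 : orderOf ((2 : ℕ) : ZMod 5) = 4 := by
  have : Fact (Nat.Prime 2) := ⟨Nat.prime_two⟩
  have h1 : ¬ ((2 : ℕ) : ZMod 5) ^ 2 ^ 1 = 1 := by
    intro h
    have h2 : (((2 : ℕ) ^ 2 ^ 1 : ℕ) : ZMod 5) = ((1 : ℕ) : ZMod 5) := by push_cast at h ⊢; exact h
    rw [ZMod.natCast_eq_natCast_iff] at h2
    exact absurd h2 (by decide)
  have h3 : ((2 : ℕ) : ZMod 5) ^ 2 ^ (1 + 1) = 1 := by
    have h2 : (((2 : ℕ) ^ 2 ^ (1 + 1) : ℕ) : ZMod 5) = ((1 : ℕ) : ZMod 5) := by
      rw [ZMod.natCast_eq_natCast_iff]; decide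
    push_cast at h2 ⊢; exact h2
  have := orderOf_eq_prime_pow (p := 2) (n := 1) h1 h3
  simpa using this

theorem orderOf_three5 : orderOf ((3 : ℕ) : ZMod 5) = 4 := by
  have : Fact (Nat.Prime 2) := ⟨Nat.prime_two⟩
  have h1 : ¬ ((3 : ℕ) : ZMod 5) ^ 2 ^ 1 = 1 := by
    intro h
    have h2 : (((3 : ℕ) ^ 2 ^ 1 : ℕ) : ZMod 5) = ((1 : ℕ) : ZMod 5) := by push_cast at h ⊢; exact h
    rw [ZMod.natCast_eq_natCast_iff] at h2
    exact absurd h2 (by decide)
  have h3 : ((3 : ℕ) : ZMod 5) ^ 2 ^ (1 + 1) = 1 := by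
    have h2 : (((3 : ℕ) ^ 2 ^ (1 + 1) : ℕ) : ZMod 5) = ((1 : ℕ) : ZMod 5) := by
      rw [ZMod.natCast_eq_natCast_iff]; decide
    push_cast at h2 ⊢; exact h2
  have := orderOf_eq_prime_pow (p := 2) (n := 1) h1 h3
  simpa using this

theorem mod5_of_order {p : ℕ} (hp5 : ¬ 5 ∣ p) (hord : orderOf (p : ZMod 5) ≠ 4) : p % 5 = 1 ∨ p % 5 = 4 := by
  have hlt : p % 5 < 5 := Nat.mod_lt _ (by norm_num)
  have hpc : (p : ZMod 5) = ((p % 5 : ℕ) : ZMod 5) := by
    rw [ZMod.natCast_mod]
  have h0 : p % 5 ≠ 0 := fun h => hp5 (Nat.dvd_of_mod_eq_zero h)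
  have hne2 : p % 5 ≠ 2 := by
    intro h
    apply hord
    rw [hpc, h]
    exact orderOf_two5
  have hne3 : p % 5 ≠ 3 := by
    intro h
    apply hord
    rw [hpc, h]
    exact orderOf_three5
  omega

theorem ne_five_of_order {p : ℕ} (hord : orderOf (p : ZMod 5) = 4) : ¬ 5 ∣ p := by
  intro hd
  have h2 : (p : ZMod 5) = 0 := (ZMod.natCast_eq_zero_iff _ _).2 hd
  rw [h2] at hord
  have h3 : (0 : ZMod 5) ^ orderOf (0 : ZMod 5) = 1 := pow_orderOf_eq_one _
  rw [hord, zero_pow (by norm_num)] at h3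
  have h5 : Fact (Nat.Prime 5) := ⟨Nat.prime_five⟩
  exact zero_ne_one h3

theorem norms_of_order4 [Fintype F] {p : ℕ} (hF : Fintype.card F = p) (hord : orderOf (p : ZMod 5) = 4)
    (hn : Fintype.card ι = 4) {x : GL ι F} (hx : x ^ 5 = 1) (hx1 : x ≠ 1) :
    ∑ k ∈ Finset.range 5, (x : Matrix ι ι F) ^ k = 0 := by
  have h5 : Fact (Nat.Prime 5) := ⟨Nat.prime_five⟩
  have h1 : ∀ d : ℕ, 0 < d → d < 4 → ¬ p ^ d ≡ 1 [MOD 5] := by
    intro d hd0 hd4 h
    have h2 : (p : ZMod 5) ^ d = 1 := by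
      have := (ZMod.natCast_eq_natCast_iff _ _ _).2 h
      simpa using this
    have h3 := orderOf_dvd_of_pow_eq_one h2
    rw [hord] at h3
    have := Nat.le_of_dvd hd0 h3
    omega
  apply norm_eq_zero_of_order hx hx1
  · rw [hF]
    rw [Nat.coprime_comm, Nat.Prime.coprime_iff_not_dvd Nat.prime_five]
    intro hd
    have h2 : (p : ZMod 5) = 0 := (ZMod.natCast_eq_zero_iff _ _).2 hd
    rw [h2] at hord
    have h3 : (0 : ZMod 5) ^ orderOf (0 : ZMod 5) = 1 := pow_orderOf_eq_one _
    rw [hord, zero_pow (by norm_num)] at h3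
    exact zero_ne_one h3
  · rw [hn, hF]
    exact h1

/-- If `G` has an element `y ∈ N` of order `r` and commuting elements of order `r` of `G` are powers of each other,
then each element of order `r` of `G` is conjugate into `N`. -/
theorem conj_into [Nonempty ι] [Finite F] {G N : Subgroup (GL ι F)} {r : ℕ} [Fact r.Prime] (hrF : (r : F) ≠ 0)
    (hN : ∀ x ∈ G, x ^ r = 1 → x ≠ 1 → ∑ k ∈ Finset.range r, (x : Matrix ι ι F) ^ k = 0)
    {y : GL ι F} (hyG : y ∈ G) (hyN : y ∈ N) (hy : y ^ r = 1) (hy1 : y ≠ 1) {x : GL ι F} (hx : x ∈ G)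
    (hxr : x ^ r = 1) : ∃ g ∈ G, g⁻¹ * x * g ∈ N := by
  have hfin : Finite (GL ι F) := inferInstance
  obtain ⟨g, k, hg⟩ := conj_of_prime_order (G := G) (r := r)
    (fun a b ha ha1 hb hab => power_of_norms hrF hN a b ha ha1 hb hab)
    (x := ⟨x, hx⟩) (y := ⟨y, hyG⟩) (Subtype.ext hxr) (Subtype.ext hy)
    (fun h => hy1 (congrArg Subtype.val h))
  have h1 := congrArg Subtype.val hg
  refine ⟨(g : GL ι F)⁻¹, G.inv_mem g.2, ?_⟩
  rw [inv_inv]
  have h2 : (g : GL ι F) * x * (g : GL ι F)⁻¹ = y ^ k := h1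
  rw [h2]
  exact N.pow_mem hyN k

theorem scalars_le_normalizer (R : Subgroup (GL ι F)) : scalars ι F ≤ subgroupNormalizer R := by
  intro z hz
  rw [subgroupNormalizer, Subgroup.mem_normalizer_iff]
  intro h
  rw [comm_of_scalar hz, mul_inv_cancel_right]

theorem le_normalizer (R : Subgroup (GL ι F)) : R ≤ subgroupNormalizer R := Subgroup.le_normalizer

end Cfsg.Agent.H960
end
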